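import Cfsg.Agent.Lib.Helper95.Ru.Defs
import Cfsg.Agent.Lib.Helper95.Ru.DataH
import Cfsg.Agent.Lib.Helper95.Ru.DataT
import Cfsg.Agent.Lib.Helper95.Ru.DataP

set_option autoImplicit false

namespace Cfsg.Agent.Lib.Helper95.Ru

set_option maxRecDepth 1000000 in
theorem valid_h1_0 : validPair hT1_0 hT1_0i = true := by decide +kernel
set_option maxRecDepth 1000000 in
theorem lin_h1_0 : linCheck PT hT1_0 hC1_0 = true := by decide +kernel
set_option maxRecDepth 1000000 in
theorem valid_h1_1 : validPair hT1_1 hT1_1i = true := by decide +kernel
set_option maxRecDepth 1000000 in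
theorem lin_h1_1 : linCheck PT hT1_1 hC1_1 = true := by decide +kernel
set_option maxRecDepth 1000000 in
theorem valid_h2_0 : validPair hT2_0 hT2_0i = true := by decide +kernel
set_option maxRecDepth 1000000 in
theorem lin_h2_0 : linCheck PT hT2_0 hC2_0 = true := by decide +kernel
set_option maxRecDepth 1000000 in
theorem valid_h2_1 : validPair hT2_1 hT2_1i = true := by decide +kernel
set_option maxRecDepth 1000000 in
theorem lin_h2_1 : linCheck PT hT2_1 hC2_1 = true := by decide +kernel
set_option maxRecDepth 1000000 in
theorem valid_h3_0 : validPair hT3_0 hT3_0i = true := by decide +kernel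
set_option maxRecDepth 1000000 in
theorem lin_h3_0 : linCheck PT hT3_0 hC3_0 = true := by decide +kernel
set_option maxRecDepth 1000000 in
theorem valid_h3_1 : validPair hT3_1 hT3_1i = true := by decide +kernel
set_option maxRecDepth 1000000 in
theorem lin_h3_1 : linCheck PT hT3_1 hC3_1 = true := by decide +kernel
set_option maxRecDepth 1000000 in
theorem valid_h3_2 : validPair hT3_2 hT3_2i = true := by decide +kernel
set_option maxRecDepth 1000000 in
theorem lin_h3_2 : linCheck PT hT3_2 hC3_2 = true := by decide +kernel
set_option maxRecDepth 1000000 in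
theorem valid_h4_0 : validPair hT4_0 hT4_0i = true := by decide +kernel
set_option maxRecDepth 1000000 in
theorem lin_h4_0 : linCheck PT hT4_0 hC4_0 = true := by decide +kernel
set_option maxRecDepth 1000000 in
theorem valid_h4_1 : validPair hT4_1 hT4_1i = true := by decide +kernel
set_option maxRecDepth 1000000 in
theorem lin_h4_1 : linCheck PT hT4_1 hC4_1 = true := by decide +kernel
set_option maxRecDepth 1000000 in
theorem valid_t1_0 : validPair tT1_0 tT1_0i = true := by decide +kernel
set_option maxRecDepth 1000000 in
theorem lin_t1_0 : linCheck PT tT1_0 tC1_0 = true := by decide +kernel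
set_option maxRecDepth 1000000 in
theorem valid_t1_1 : validPair tT1_1 tT1_1i = true := by decide +kernel
set_option maxRecDepth 1000000 in
theorem lin_t1_1 : linCheck PT tT1_1 tC1_1 = true := by decide +kernel
set_option maxRecDepth 1000000 in
theorem valid_t2_0 : validPair tT2_0 tT2_0i = true := by decide +kernel
set_option maxRecDepth 1000000 in
theorem lin_t2_0 : linCheck PT tT2_0 tC2_0 = true := by decide +kernel
set_option maxRecDepth 1000000 in
theorem valid_t2_1 : validPair tT2_1 tT2_1i = true := by decide +kernel
set_option maxRecDepth 1000000 in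
theorem lin_t2_1 : linCheck PT tT2_1 tC2_1 = true := by decide +kernel
set_option maxRecDepth 1000000 in
theorem valid_t3_0 : validPair tT3_0 tT3_0i = true := by decide +kernel
set_option maxRecDepth 1000000 in
theorem lin_t3_0 : linCheck PT tT3_0 tC3_0 = true := by decide +kernel
set_option maxRecDepth 1000000 in
theorem valid_t3_1 : validPair tT3_1 tT3_1i = true := by decide +kernel
set_option maxRecDepth 1000000 in
theorem lin_t3_1 : linCheck PT tT3_1 tC3_1 = true := by decide +kernel
set_option maxRecDepth 1000000 in
theorem patMono_ok : patMono PT = true := by decide +kernel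
set_option maxRecDepth 1000000 in
theorem span_ok : spanCheck PT CT Bpts = true := by decide +kernel
set_option maxRecDepth 1000000 in
theorem tId_ok : allBelow (fun x => Nat.beq (tb tId x) x) 4060 = true := by decide +kernel

end Cfsg.Agent.Lib.Helper95.Ru
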