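import Cfsg.Agent.Lib.Helper95.Ru.Defs
import Cfsg.Agent.Lib.Helper95.Ru.DataH
import Cfsg.Agent.Lib.Helper95.Ru.DataT
import Cfsg.Agent.Lib.Helper95.Ru.DataO

/-!
# Rudvalis group on 4060 points (S0459): the remaining small kernel checks (orders of generators, suborbit bookkeeping)
-/

set_option autoImplicit false

namespace Cfsg.Agent.Lib.Helper95.Ru

set_option maxRecDepth 1000000 in
theorem pow29_h1_0 : allBelow (fun x => Nat.beq (evalT (List.replicate 29 hT1_0) x) x) 4060 = true := by decide +kernel
set_option maxRecDepth 1000000 in
theorem pow29_h1_1 : allBelow (fun x => Nat.beq (evalT (List.replicate 29 hT1_1) x) x) 4060 = true := by decide +kernel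
set_option maxRecDepth 1000000 in
theorem pow13_t1_0 : allBelow (fun x => Nat.beq (evalT (List.replicate 13 tT1_0) x) x) 4060 = true := by decide +kernel
set_option maxRecDepth 1000000 in
theorem pow13_t1_1 : allBelow (fun x => Nat.beq (evalT (List.replicate 13 tT1_1) x) x) 4060 = true := by decide +kernel

-- Every point lies in the first orbit (transitivity).
set_option maxRecDepth 1000000 in
theorem full_h1 : allBelow (fun x => inOrb hW1 x) 4060 = true := by decide +kernel

/-! ### the two suborbits of the point stabiliser -/

set_option maxRecDepth 1000000 in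
theorem coverH : allBelow (fun x => Nat.beq x 0 || inOrb hW2 x || inOrb oW1 x) 4060 = true := by decide +kernel
set_option maxRecDepth 1000000 in
theorem disjH : allBelow (fun x => !(inOrb hW2 x && inOrb oW1 x)) 4060 = true := by decide +kernel
theorem notR0 : inOrb hW2 0 = false := by decide +kernel
theorem notO0 : inOrb oW1 0 = false := by decide +kernel
theorem rootO1 : inOrb oW1 1 = true := by decide +kernel

/-! ### the four suborbits of the stabiliser of `2` in the Tits group on its orbit of length 1755 -/

set_option maxRecDepth 1000000 in
theorem coverT : allBelow (fun x => !(inOrb tW1 x) || Nat.beq x 2 ||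
    inOrb sW0 x || inOrb sW1 x || inOrb sW2 x || inOrb sW3 x) 4060 = true := by decide +kernel
set_option maxRecDepth 1000000 in
theorem disjT : allBelow (fun x => !(inOrb sW0 x && inOrb sW1 x) && !(inOrb sW0 x && inOrb sW2 x) &&
    !(inOrb sW0 x && inOrb sW3 x) && !(inOrb sW1 x && inOrb sW2 x) && !(inOrb sW1 x && inOrb sW3 x) &&
    !(inOrb sW2 x && inOrb sW3 x)) 4060 = true := by decide +kernel
set_option maxRecDepth 1000000 in
theorem subT0 : allBelow (fun x => !(inOrb sW0 x) || inOrb tW1 x) 4060 = true := by decide +kernel
set_option maxRecDepth 1000000 in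
theorem subT1 : allBelow (fun x => !(inOrb sW1 x) || inOrb tW1 x) 4060 = true := by decide +kernel
set_option maxRecDepth 1000000 in
theorem subT2 : allBelow (fun x => !(inOrb sW2 x) || inOrb tW1 x) 4060 = true := by decide +kernel
set_option maxRecDepth 1000000 in
theorem subT3 : allBelow (fun x => !(inOrb sW3 x) || inOrb tW1 x) 4060 = true := by decide +kernel
theorem notS0 : inOrb sW0 2 = false := by decide +kernel
theorem notS1 : inOrb sW1 2 = false := by decide +kernel
theorem notS2 : inOrb sW2 2 = false := by decide +kernel
theorem notS3 : inOrb sW3 2 = false := by decide +kernel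
theorem rootS0 : inOrb sW0 3 = true := by decide +kernel
theorem rootS1 : inOrb sW1 6 = true := by decide +kernel
theorem rootS2 : inOrb sW2 13 = true := by decide +kernel
theorem rootS3 : inOrb sW3 1351 = true := by decide +kernel
theorem inT3 : inOrb tW1 3 = true := by decide +kernel
theorem inT5 : inOrb tW1 5 = true := by decide +kernel

/-! ### size bounds of the transversal tables (so that points `≥ 4060` read as entry `0`) -/

theorem bound_tW1 : Nat.shiftRight tW1 259840 = 0 := by decide +kernel
theorem bound_sW0 : Nat.shiftRight sW0 259840 = 0 := by decide +kernel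
theorem bound_sW1 : Nat.shiftRight sW1 259840 = 0 := by decide +kernel
theorem bound_sW2 : Nat.shiftRight sW2 259840 = 0 := by decide +kernel
theorem bound_sW3 : Nat.shiftRight sW3 259840 = 0 := by decide +kernel

end Cfsg.Agent.Lib.Helper95.Ru
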