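import Cfsg.Agent.Lib.Helper95.Ru.Defs
import Cfsg.Agent.Lib.Helper95.Ru.DataH
import Cfsg.Agent.Lib.Helper95.Ru.DataT
import Cfsg.Agent.Lib.Helper95.Ru.DataO

set_option autoImplicit false

namespace Cfsg.Agent.Lib.Helper95.Ru

set_option maxRecDepth 1000000 in
theorem word_h2_0 : wordCheck hT2_0 (wT hLT1 [0, 0, 3, 3, 3, 0, 3, 0, 2, 1, 1, 1, 2, 0, 2, 1, 3]) = true := by decide +kernel
set_option maxRecDepth 1000000 in
theorem word_h2_1 : wordCheck hT2_1 (wT hLT1 [2, 2, 1, 1, 3, 1, 2, 2, 2, 0, 3, 0, 3, 3, 1, 3, 1]) = true := by decide +kernel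
set_option maxRecDepth 1000000 in
theorem word_h3_0 : wordCheck hT3_0 (wT hLT2 [2, 0, 3, 0, 2, 2, 0, 2, 2, 1, 2, 0, 2, 0, 0, 0]) = true := by decide +kernel
set_option maxRecDepth 1000000 in
theorem word_h3_1 : wordCheck hT3_1 (wT hLT2 [1, 1, 1, 1, 3, 0, 3, 0, 0, 0, 2, 0, 3, 1, 1, 1]) = true := by decide +kernel
set_option maxRecDepth 1000000 in
theorem word_h3_2 : wordCheck hT3_2 (wT hLT2 [0, 2, 2, 2, 0, 2, 2, 0, 2, 2, 1, 2, 2, 1, 2, 1, 3]) = true := by decide +kernel
set_option maxRecDepth 1000000 in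
theorem word_h4_0 : wordCheck hT4_0 (wT hLT3 [2, 4, 2, 4, 4, 0, 0, 4, 0, 0]) = true := by decide +kernel
set_option maxRecDepth 1000000 in
theorem word_h4_1 : wordCheck hT4_1 (wT hLT3 [0, 0, 5, 5, 1, 2, 4, 3, 4, 1, 5]) = true := by decide +kernel
set_option maxRecDepth 1000000 in
theorem word_t1_0 : wordCheck tT1_0 (wT hLT2 [3, 0, 2, 3, 1, 0, 2, 1]) = true := by decide +kernel
set_option maxRecDepth 1000000 in
theorem word_t1_1 : wordCheck tT1_1 (wT hLT2 [1, 2, 1, 0, 1, 3, 1, 2]) = true := by decide +kernel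
set_option maxRecDepth 1000000 in
theorem word_t2_0 : wordCheck tT2_0 (wT tLT1 [0, 3, 3, 3, 3, 0, 2, 1, 2, 2, 1]) = true := by decide +kernel
set_option maxRecDepth 1000000 in
theorem word_t2_1 : wordCheck tT2_1 (wT tLT1 [2, 2, 2, 2, 0, 0, 2, 0, 2, 1, 1, 3, 1, 3, 3, 3, 1]) = true := by decide +kernel
set_option maxRecDepth 1000000 in
theorem word_t3_0 : wordCheck tT3_0 (wT tLT2 [2, 0, 3, 1, 1, 2, 0, 2, 2, 2, 1, 1, 1, 1]) = true := by decide +kernel
set_option maxRecDepth 1000000 in
theorem word_t3_1 : wordCheck tT3_1 (wT tLT2 [1, 2, 1, 2, 2, 1, 1, 2, 0, 2, 1, 2, 1, 3, 3, 1]) = true := by decide +kernel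
theorem fix_h2 : fixCheck hLT2 0 = true := by decide +kernel
theorem fix_h3 : fixCheck hLT3 2 = true := by decide +kernel
theorem fix_h4 : fixCheck hLT4 3 = true := by decide +kernel
theorem fix_t1 : fixCheck tLT1 0 = true := by decide +kernel
theorem fix_t2 : fixCheck tLT2 2 = true := by decide +kernel
theorem fix_t3 : fixCheck tLT3 3 = true := by decide +kernel
theorem root_h1 : (inOrb hL1.W hL1.β = true ∧ uw hL1 hL1.β = []) := by
  constructor <;> decide +kernel
set_option maxRecDepth 1000000 in
theorem count_h1 : orbCount hW1 4060 = 4060 := by decide +kernel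
theorem root_h2 : (inOrb hL2.W hL2.β = true ∧ uw hL2 hL2.β = []) := by
  constructor <;> decide +kernel
set_option maxRecDepth 1000000 in
theorem count_h2 : orbCount hW2 4060 = 1755 := by decide +kernel
theorem root_h3 : (inOrb hL3.W hL3.β = true ∧ uw hL3 hL3.β = []) := by
  constructor <;> decide +kernel
set_option maxRecDepth 1000000 in
theorem count_h3 : orbCount hW3 4060 = 1024 := by decide +kernel
theorem root_h4 : (inOrb hL4.W hL4.β = true ∧ uw hL4 hL4.β = []) := by
  constructor <;> decide +kernel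
set_option maxRecDepth 1000000 in
theorem count_h4 : orbCount hW4 4060 = 20 := by decide +kernel
theorem root_t1 : (inOrb tL1.W tL1.β = true ∧ uw tL1 tL1.β = []) := by
  constructor <;> decide +kernel
set_option maxRecDepth 1000000 in
theorem count_t1 : orbCount tW1 4060 = 1755 := by decide +kernel
theorem root_t2 : (inOrb tL2.W tL2.β = true ∧ uw tL2 tL2.β = []) := by
  constructor <;> decide +kernel
set_option maxRecDepth 1000000 in
theorem count_t2 : orbCount tW2 4060 = 1024 := by decide +kernel
theorem root_t3 : (inOrb tL3.W tL3.β = true ∧ uw tL3 tL3.β = []) := by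
  constructor <;> decide +kernel
set_option maxRecDepth 1000000 in
theorem count_t3 : orbCount tW3 4060 = 10 := by decide +kernel
set_option maxRecDepth 1000000 in
theorem orbit_o1 : orbitCheck oL1 = true := by decide +kernel
set_option maxRecDepth 1000000 in
theorem count_o1 : orbCount oW1 4060 = 2304 := by decide +kernel
set_option maxRecDepth 1000000 in
theorem orbit_s0 : orbitCheck sL0 = true := by decide +kernel
set_option maxRecDepth 1000000 in
theorem count_s0 : orbCount sW0 4060 = 1024 := by decide +kernel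
set_option maxRecDepth 1000000 in
theorem orbit_s1 : orbitCheck sL1 = true := by decide +kernel
set_option maxRecDepth 1000000 in
theorem count_s1 : orbCount sW1 4060 = 640 := by decide +kernel
set_option maxRecDepth 1000000 in
theorem orbit_s2 : orbitCheck sL2 = true := by decide +kernel
set_option maxRecDepth 1000000 in
theorem count_s2 : orbCount sW2 4060 = 80 := by decide +kernel
set_option maxRecDepth 1000000 in
theorem orbit_s3 : orbitCheck sL3 = true := by decide +kernel
set_option maxRecDepth 1000000 in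
theorem count_s3 : orbCount sW3 4060 = 10 := by decide +kernel

end Cfsg.Agent.Lib.Helper95.Ru
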