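import Cfsg.Agent.Lib.Helper95.Ru.Defs
import Cfsg.Agent.Lib.Helper95.Ru.DataH
import Cfsg.Agent.Lib.Helper95.Ru.DataT
import Cfsg.Agent.Lib.Helper95.Ru.DataP

set_option autoImplicit false

namespace Cfsg.Agent.Lib.Helper95.Ru

set_option maxRecDepth 1000000 in
theorem lvl_t2_0 : levelCheckRange Bpts tL2 [tL3] 0 275 = true := by decide +kernel
set_option maxRecDepth 1000000 in
theorem lvl_t2_275 : levelCheckRange Bpts tL2 [tL3] 275 275 = true := by decide +kernel
set_option maxRecDepth 1000000 in
theorem lvl_t2_550 : levelCheckRange Bpts tL2 [tL3] 550 275 = true := by decide +kernel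
set_option maxRecDepth 1000000 in
theorem lvl_t2_825 : levelCheckRange Bpts tL2 [tL3] 825 275 = true := by decide +kernel

end Cfsg.Agent.Lib.Helper95.Ru
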