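import Cfsg.Agent.Lib.Helper95.Ru.Defs
import Cfsg.Agent.Lib.Helper95.Ru.DataH
import Cfsg.Agent.Lib.Helper95.Ru.DataT
import Cfsg.Agent.Lib.Helper95.Ru.DataP

set_option autoImplicit false

namespace Cfsg.Agent.Lib.Helper95.Ru

set_option maxRecDepth 1000000 in
theorem lvl_t2_2200 : levelCheckRange Bpts tL2 [tL3] 2200 275 = true := by decide +kernel
set_option maxRecDepth 1000000 in
theorem lvl_t2_2475 : levelCheckRange Bpts tL2 [tL3] 2475 275 = true := by decide +kernel
set_option maxRecDepth 1000000 in
theorem lvl_t2_2750 : levelCheckRange Bpts tL2 [tL3] 2750 275 = true := by decide +kernel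
set_option maxRecDepth 1000000 in
theorem lvl_t2_3025 : levelCheckRange Bpts tL2 [tL3] 3025 275 = true := by decide +kernel

end Cfsg.Agent.Lib.Helper95.Ru
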