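import Cfsg.Agent.Lib.Helper95.Ru.Defs
import Cfsg.Agent.Lib.Helper95.Ru.DataH
import Cfsg.Agent.Lib.Helper95.Ru.DataT
import Cfsg.Agent.Lib.Helper95.Ru.DataP
import Cfsg.Agent.Lib.Helper62.RuKeyC1
import Cfsg.Agent.Lib.Helper95.Ru.Chk_lvl_h1_0
import Cfsg.Agent.Lib.Helper95.Ru.Chk_lvl_h1_300
import Cfsg.Agent.Lib.Helper95.Ru.Chk_lvl_h1_600
import Cfsg.Agent.Lib.Helper95.Ru.Chk_lvl_h1_900
import Cfsg.Agent.Lib.Helper95.Ru.Chk_lvl_h1_1200
import Cfsg.Agent.Lib.Helper95.Ru.Chk_lvl_h1_1500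
import Cfsg.Agent.Lib.Helper95.Ru.Chk_lvl_h1_1800
import Cfsg.Agent.Lib.Helper95.Ru.Chk_lvl_h1_2100
import Cfsg.Agent.Lib.Helper95.Ru.Chk_lvl_h1_2400
import Cfsg.Agent.Lib.Helper95.Ru.Chk_lvl_h1_2700
import Cfsg.Agent.Lib.Helper95.Ru.Chk_lvl_h1_3000
import Cfsg.Agent.Lib.Helper95.Ru.Chk_lvl_h1_3300
import Cfsg.Agent.Lib.Helper95.Ru.Chk_lvl_h1_3600
import Cfsg.Agent.Lib.Helper95.Ru.Chk_lvl_h1_3900
import Cfsg.Agent.Lib.Helper95.Ru.Chk_lvl_h2_0
import Cfsg.Agent.Lib.Helper95.Ru.Chk_lvl_h2_700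
import Cfsg.Agent.Lib.Helper95.Ru.Chk_lvl_h2_1400
import Cfsg.Agent.Lib.Helper95.Ru.Chk_lvl_h2_2100
import Cfsg.Agent.Lib.Helper95.Ru.Chk_lvl_h2_2800
import Cfsg.Agent.Lib.Helper95.Ru.Chk_lvl_h2_3500
import Cfsg.Agent.Lib.Helper95.Ru.Chk_lvl_h3_0
import Cfsg.Agent.Lib.Helper95.Ru.Chk_lvl_h3_1100
import Cfsg.Agent.Lib.Helper95.Ru.Chk_lvl_h3_2200
import Cfsg.Agent.Lib.Helper95.Ru.Chk_lvl_h3_3300
import Cfsg.Agent.Lib.Helper95.Ru.Chk_lvl_h4_0
import Cfsg.Agent.Lib.Helper95.Ru.Chk_lvl_t1_0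
import Cfsg.Agent.Lib.Helper95.Ru.Chk_lvl_t1_700
import Cfsg.Agent.Lib.Helper95.Ru.Chk_lvl_t1_1400
import Cfsg.Agent.Lib.Helper95.Ru.Chk_lvl_t1_2100
import Cfsg.Agent.Lib.Helper95.Ru.Chk_lvl_t1_2800
import Cfsg.Agent.Lib.Helper95.Ru.Chk_lvl_t1_3500
import Cfsg.Agent.Lib.Helper95.Ru.Chk_lvl_t2_0
import Cfsg.Agent.Lib.Helper95.Ru.Chk_lvl_t2_1100
import Cfsg.Agent.Lib.Helper95.Ru.Chk_lvl_t2_2200
import Cfsg.Agent.Lib.Helper95.Ru.Chk_lvl_t2_3300
import Cfsg.Agent.Lib.Helper95.Ru.Chk_lvl_t3_0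

set_option autoImplicit false

namespace Cfsg.Agent.Lib.Helper95.Ru

open Cfsg.Agent.Lib.Helper62.RuKey

theorem lvl_h1 : levelCheckRange Bpts hL1 [hL2, hL3, hL4] 0 4060 = true := by
  have a0 : levelCheckRange Bpts hL1 [hL2, hL3, hL4] 0 60 = true := lvl_h1_0
  have a1 : levelCheckRange Bpts hL1 [hL2, hL3, hL4] 0 120 = true :=
    levelCheckRange_add Bpts hL1 [hL2, hL3, hL4] 0 60 60 a0 lvl_h1_60
  have a2 : levelCheckRange Bpts hL1 [hL2, hL3, hL4] 0 180 = true :=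
    levelCheckRange_add Bpts hL1 [hL2, hL3, hL4] 0 120 60 a1 lvl_h1_120
  have a3 : levelCheckRange Bpts hL1 [hL2, hL3, hL4] 0 240 = true :=
    levelCheckRange_add Bpts hL1 [hL2, hL3, hL4] 0 180 60 a2 lvl_h1_180
  have a4 : levelCheckRange Bpts hL1 [hL2, hL3, hL4] 0 300 = true :=
    levelCheckRange_add Bpts hL1 [hL2, hL3, hL4] 0 240 60 a3 lvl_h1_240
  have a5 : levelCheckRange Bpts hL1 [hL2, hL3, hL4] 0 360 = true :=
    levelCheckRange_add Bpts hL1 [hL2, hL3, hL4] 0 300 60 a4 lvl_h1_300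
  have a6 : levelCheckRange Bpts hL1 [hL2, hL3, hL4] 0 420 = true :=
    levelCheckRange_add Bpts hL1 [hL2, hL3, hL4] 0 360 60 a5 lvl_h1_360
  have a7 : levelCheckRange Bpts hL1 [hL2, hL3, hL4] 0 480 = true :=
    levelCheckRange_add Bpts hL1 [hL2, hL3, hL4] 0 420 60 a6 lvl_h1_420
  have a8 : levelCheckRange Bpts hL1 [hL2, hL3, hL4] 0 540 = true :=
    levelCheckRange_add Bpts hL1 [hL2, hL3, hL4] 0 480 60 a7 lvl_h1_480
  have a9 : levelCheckRange Bpts hL1 [hL2, hL3, hL4] 0 600 = true :=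
    levelCheckRange_add Bpts hL1 [hL2, hL3, hL4] 0 540 60 a8 lvl_h1_540
  have a10 : levelCheckRange Bpts hL1 [hL2, hL3, hL4] 0 660 = true :=
    levelCheckRange_add Bpts hL1 [hL2, hL3, hL4] 0 600 60 a9 lvl_h1_600
  have a11 : levelCheckRange Bpts hL1 [hL2, hL3, hL4] 0 720 = true :=
    levelCheckRange_add Bpts hL1 [hL2, hL3, hL4] 0 660 60 a10 lvl_h1_660
  have a12 : levelCheckRange Bpts hL1 [hL2, hL3, hL4] 0 780 = true :=
    levelCheckRange_add Bpts hL1 [hL2, hL3, hL4] 0 720 60 a11 lvl_h1_720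
  have a13 : levelCheckRange Bpts hL1 [hL2, hL3, hL4] 0 840 = true :=
    levelCheckRange_add Bpts hL1 [hL2, hL3, hL4] 0 780 60 a12 lvl_h1_780
  have a14 : levelCheckRange Bpts hL1 [hL2, hL3, hL4] 0 900 = true :=
    levelCheckRange_add Bpts hL1 [hL2, hL3, hL4] 0 840 60 a13 lvl_h1_840
  have a15 : levelCheckRange Bpts hL1 [hL2, hL3, hL4] 0 960 = true :=
    levelCheckRange_add Bpts hL1 [hL2, hL3, hL4] 0 900 60 a14 lvl_h1_900
  have a16 : levelCheckRange Bpts hL1 [hL2, hL3, hL4] 0 1020 = true :=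
    levelCheckRange_add Bpts hL1 [hL2, hL3, hL4] 0 960 60 a15 lvl_h1_960
  have a17 : levelCheckRange Bpts hL1 [hL2, hL3, hL4] 0 1080 = true :=
    levelCheckRange_add Bpts hL1 [hL2, hL3, hL4] 0 1020 60 a16 lvl_h1_1020
  have a18 : levelCheckRange Bpts hL1 [hL2, hL3, hL4] 0 1140 = true :=
    levelCheckRange_add Bpts hL1 [hL2, hL3, hL4] 0 1080 60 a17 lvl_h1_1080
  have a19 : levelCheckRange Bpts hL1 [hL2, hL3, hL4] 0 1200 = true :=
    levelCheckRange_add Bpts hL1 [hL2, hL3, hL4] 0 1140 60 a18 lvl_h1_1140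
  have a20 : levelCheckRange Bpts hL1 [hL2, hL3, hL4] 0 1260 = true :=
    levelCheckRange_add Bpts hL1 [hL2, hL3, hL4] 0 1200 60 a19 lvl_h1_1200
  have a21 : levelCheckRange Bpts hL1 [hL2, hL3, hL4] 0 1320 = true :=
    levelCheckRange_add Bpts hL1 [hL2, hL3, hL4] 0 1260 60 a20 lvl_h1_1260
  have a22 : levelCheckRange Bpts hL1 [hL2, hL3, hL4] 0 1380 = true :=
    levelCheckRange_add Bpts hL1 [hL2, hL3, hL4] 0 1320 60 a21 lvl_h1_1320
  have a23 : levelCheckRange Bpts hL1 [hL2, hL3, hL4] 0 1440 = true :=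
    levelCheckRange_add Bpts hL1 [hL2, hL3, hL4] 0 1380 60 a22 lvl_h1_1380
  have a24 : levelCheckRange Bpts hL1 [hL2, hL3, hL4] 0 1500 = true :=
    levelCheckRange_add Bpts hL1 [hL2, hL3, hL4] 0 1440 60 a23 lvl_h1_1440
  have a25 : levelCheckRange Bpts hL1 [hL2, hL3, hL4] 0 1560 = true :=
    levelCheckRange_add Bpts hL1 [hL2, hL3, hL4] 0 1500 60 a24 lvl_h1_1500
  have a26 : levelCheckRange Bpts hL1 [hL2, hL3, hL4] 0 1620 = true :=
    levelCheckRange_add Bpts hL1 [hL2, hL3, hL4] 0 1560 60 a25 lvl_h1_1560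
  have a27 : levelCheckRange Bpts hL1 [hL2, hL3, hL4] 0 1680 = true :=
    levelCheckRange_add Bpts hL1 [hL2, hL3, hL4] 0 1620 60 a26 lvl_h1_1620
  have a28 : levelCheckRange Bpts hL1 [hL2, hL3, hL4] 0 1740 = true :=
    levelCheckRange_add Bpts hL1 [hL2, hL3, hL4] 0 1680 60 a27 lvl_h1_1680
  have a29 : levelCheckRange Bpts hL1 [hL2, hL3, hL4] 0 1800 = true :=
    levelCheckRange_add Bpts hL1 [hL2, hL3, hL4] 0 1740 60 a28 lvl_h1_1740
  have a30 : levelCheckRange Bpts hL1 [hL2, hL3, hL4] 0 1860 = true :=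
    levelCheckRange_add Bpts hL1 [hL2, hL3, hL4] 0 1800 60 a29 lvl_h1_1800
  have a31 : levelCheckRange Bpts hL1 [hL2, hL3, hL4] 0 1920 = true :=
    levelCheckRange_add Bpts hL1 [hL2, hL3, hL4] 0 1860 60 a30 lvl_h1_1860
  have a32 : levelCheckRange Bpts hL1 [hL2, hL3, hL4] 0 1980 = true :=
    levelCheckRange_add Bpts hL1 [hL2, hL3, hL4] 0 1920 60 a31 lvl_h1_1920
  have a33 : levelCheckRange Bpts hL1 [hL2, hL3, hL4] 0 2040 = true :=
    levelCheckRange_add Bpts hL1 [hL2, hL3, hL4] 0 1980 60 a32 lvl_h1_1980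
  have a34 : levelCheckRange Bpts hL1 [hL2, hL3, hL4] 0 2100 = true :=
    levelCheckRange_add Bpts hL1 [hL2, hL3, hL4] 0 2040 60 a33 lvl_h1_2040
  have a35 : levelCheckRange Bpts hL1 [hL2, hL3, hL4] 0 2160 = true :=
    levelCheckRange_add Bpts hL1 [hL2, hL3, hL4] 0 2100 60 a34 lvl_h1_2100
  have a36 : levelCheckRange Bpts hL1 [hL2, hL3, hL4] 0 2220 = true :=
    levelCheckRange_add Bpts hL1 [hL2, hL3, hL4] 0 2160 60 a35 lvl_h1_2160
  have a37 : levelCheckRange Bpts hL1 [hL2, hL3, hL4] 0 2280 = true :=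
    levelCheckRange_add Bpts hL1 [hL2, hL3, hL4] 0 2220 60 a36 lvl_h1_2220
  have a38 : levelCheckRange Bpts hL1 [hL2, hL3, hL4] 0 2340 = true :=
    levelCheckRange_add Bpts hL1 [hL2, hL3, hL4] 0 2280 60 a37 lvl_h1_2280
  have a39 : levelCheckRange Bpts hL1 [hL2, hL3, hL4] 0 2400 = true :=
    levelCheckRange_add Bpts hL1 [hL2, hL3, hL4] 0 2340 60 a38 lvl_h1_2340
  have a40 : levelCheckRange Bpts hL1 [hL2, hL3, hL4] 0 2460 = true :=
    levelCheckRange_add Bpts hL1 [hL2, hL3, hL4] 0 2400 60 a39 lvl_h1_2400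
  have a41 : levelCheckRange Bpts hL1 [hL2, hL3, hL4] 0 2520 = true :=
    levelCheckRange_add Bpts hL1 [hL2, hL3, hL4] 0 2460 60 a40 lvl_h1_2460
  have a42 : levelCheckRange Bpts hL1 [hL2, hL3, hL4] 0 2580 = true :=
    levelCheckRange_add Bpts hL1 [hL2, hL3, hL4] 0 2520 60 a41 lvl_h1_2520
  have a43 : levelCheckRange Bpts hL1 [hL2, hL3, hL4] 0 2640 = true :=
    levelCheckRange_add Bpts hL1 [hL2, hL3, hL4] 0 2580 60 a42 lvl_h1_2580
  have a44 : levelCheckRange Bpts hL1 [hL2, hL3, hL4] 0 2700 = true :=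
    levelCheckRange_add Bpts hL1 [hL2, hL3, hL4] 0 2640 60 a43 lvl_h1_2640
  have a45 : levelCheckRange Bpts hL1 [hL2, hL3, hL4] 0 2760 = true :=
    levelCheckRange_add Bpts hL1 [hL2, hL3, hL4] 0 2700 60 a44 lvl_h1_2700
  have a46 : levelCheckRange Bpts hL1 [hL2, hL3, hL4] 0 2820 = true :=
    levelCheckRange_add Bpts hL1 [hL2, hL3, hL4] 0 2760 60 a45 lvl_h1_2760
  have a47 : levelCheckRange Bpts hL1 [hL2, hL3, hL4] 0 2880 = true :=
    levelCheckRange_add Bpts hL1 [hL2, hL3, hL4] 0 2820 60 a46 lvl_h1_2820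
  have a48 : levelCheckRange Bpts hL1 [hL2, hL3, hL4] 0 2940 = true :=
    levelCheckRange_add Bpts hL1 [hL2, hL3, hL4] 0 2880 60 a47 lvl_h1_2880
  have a49 : levelCheckRange Bpts hL1 [hL2, hL3, hL4] 0 3000 = true :=
    levelCheckRange_add Bpts hL1 [hL2, hL3, hL4] 0 2940 60 a48 lvl_h1_2940
  have a50 : levelCheckRange Bpts hL1 [hL2, hL3, hL4] 0 3060 = true :=
    levelCheckRange_add Bpts hL1 [hL2, hL3, hL4] 0 3000 60 a49 lvl_h1_3000
  have a51 : levelCheckRange Bpts hL1 [hL2, hL3, hL4] 0 3120 = true :=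
    levelCheckRange_add Bpts hL1 [hL2, hL3, hL4] 0 3060 60 a50 lvl_h1_3060
  have a52 : levelCheckRange Bpts hL1 [hL2, hL3, hL4] 0 3180 = true :=
    levelCheckRange_add Bpts hL1 [hL2, hL3, hL4] 0 3120 60 a51 lvl_h1_3120
  have a53 : levelCheckRange Bpts hL1 [hL2, hL3, hL4] 0 3240 = true :=
    levelCheckRange_add Bpts hL1 [hL2, hL3, hL4] 0 3180 60 a52 lvl_h1_3180
  have a54 : levelCheckRange Bpts hL1 [hL2, hL3, hL4] 0 3300 = true :=
    levelCheckRange_add Bpts hL1 [hL2, hL3, hL4] 0 3240 60 a53 lvl_h1_3240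
  have a55 : levelCheckRange Bpts hL1 [hL2, hL3, hL4] 0 3360 = true :=
    levelCheckRange_add Bpts hL1 [hL2, hL3, hL4] 0 3300 60 a54 lvl_h1_3300
  have a56 : levelCheckRange Bpts hL1 [hL2, hL3, hL4] 0 3420 = true :=
    levelCheckRange_add Bpts hL1 [hL2, hL3, hL4] 0 3360 60 a55 lvl_h1_3360
  have a57 : levelCheckRange Bpts hL1 [hL2, hL3, hL4] 0 3480 = true :=
    levelCheckRange_add Bpts hL1 [hL2, hL3, hL4] 0 3420 60 a56 lvl_h1_3420
  have a58 : levelCheckRange Bpts hL1 [hL2, hL3, hL4] 0 3540 = true :=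
    levelCheckRange_add Bpts hL1 [hL2, hL3, hL4] 0 3480 60 a57 lvl_h1_3480
  have a59 : levelCheckRange Bpts hL1 [hL2, hL3, hL4] 0 3600 = true :=
    levelCheckRange_add Bpts hL1 [hL2, hL3, hL4] 0 3540 60 a58 lvl_h1_3540
  have a60 : levelCheckRange Bpts hL1 [hL2, hL3, hL4] 0 3660 = true :=
    levelCheckRange_add Bpts hL1 [hL2, hL3, hL4] 0 3600 60 a59 lvl_h1_3600
  have a61 : levelCheckRange Bpts hL1 [hL2, hL3, hL4] 0 3720 = true :=
    levelCheckRange_add Bpts hL1 [hL2, hL3, hL4] 0 3660 60 a60 lvl_h1_3660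
  have a62 : levelCheckRange Bpts hL1 [hL2, hL3, hL4] 0 3780 = true :=
    levelCheckRange_add Bpts hL1 [hL2, hL3, hL4] 0 3720 60 a61 lvl_h1_3720
  have a63 : levelCheckRange Bpts hL1 [hL2, hL3, hL4] 0 3840 = true :=
    levelCheckRange_add Bpts hL1 [hL2, hL3, hL4] 0 3780 60 a62 lvl_h1_3780
  have a64 : levelCheckRange Bpts hL1 [hL2, hL3, hL4] 0 3900 = true :=
    levelCheckRange_add Bpts hL1 [hL2, hL3, hL4] 0 3840 60 a63 lvl_h1_3840
  have a65 : levelCheckRange Bpts hL1 [hL2, hL3, hL4] 0 3960 = true :=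
    levelCheckRange_add Bpts hL1 [hL2, hL3, hL4] 0 3900 60 a64 lvl_h1_3900
  have a66 : levelCheckRange Bpts hL1 [hL2, hL3, hL4] 0 4020 = true :=
    levelCheckRange_add Bpts hL1 [hL2, hL3, hL4] 0 3960 60 a65 lvl_h1_3960
  have a67 : levelCheckRange Bpts hL1 [hL2, hL3, hL4] 0 4060 = true :=
    levelCheckRange_add Bpts hL1 [hL2, hL3, hL4] 0 4020 40 a66 lvl_h1_4020
  exact a67

theorem lvl_h2 : levelCheckRange Bpts hL2 [hL3, hL4] 0 4060 = true := by
  have a0 : levelCheckRange Bpts hL2 [hL3, hL4] 0 140 = true := lvl_h2_0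
  have a1 : levelCheckRange Bpts hL2 [hL3, hL4] 0 280 = true :=
    levelCheckRange_add Bpts hL2 [hL3, hL4] 0 140 140 a0 lvl_h2_140
  have a2 : levelCheckRange Bpts hL2 [hL3, hL4] 0 420 = true :=
    levelCheckRange_add Bpts hL2 [hL3, hL4] 0 280 140 a1 lvl_h2_280
  have a3 : levelCheckRange Bpts hL2 [hL3, hL4] 0 560 = true :=
    levelCheckRange_add Bpts hL2 [hL3, hL4] 0 420 140 a2 lvl_h2_420
  have a4 : levelCheckRange Bpts hL2 [hL3, hL4] 0 700 = true :=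
    levelCheckRange_add Bpts hL2 [hL3, hL4] 0 560 140 a3 lvl_h2_560
  have a5 : levelCheckRange Bpts hL2 [hL3, hL4] 0 840 = true :=
    levelCheckRange_add Bpts hL2 [hL3, hL4] 0 700 140 a4 lvl_h2_700
  have a6 : levelCheckRange Bpts hL2 [hL3, hL4] 0 980 = true :=
    levelCheckRange_add Bpts hL2 [hL3, hL4] 0 840 140 a5 lvl_h2_840
  have a7 : levelCheckRange Bpts hL2 [hL3, hL4] 0 1120 = true :=
    levelCheckRange_add Bpts hL2 [hL3, hL4] 0 980 140 a6 lvl_h2_980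
  have a8 : levelCheckRange Bpts hL2 [hL3, hL4] 0 1260 = true :=
    levelCheckRange_add Bpts hL2 [hL3, hL4] 0 1120 140 a7 lvl_h2_1120
  have a9 : levelCheckRange Bpts hL2 [hL3, hL4] 0 1400 = true :=
    levelCheckRange_add Bpts hL2 [hL3, hL4] 0 1260 140 a8 lvl_h2_1260
  have a10 : levelCheckRange Bpts hL2 [hL3, hL4] 0 1540 = true :=
    levelCheckRange_add Bpts hL2 [hL3, hL4] 0 1400 140 a9 lvl_h2_1400
  have a11 : levelCheckRange Bpts hL2 [hL3, hL4] 0 1680 = true :=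
    levelCheckRange_add Bpts hL2 [hL3, hL4] 0 1540 140 a10 lvl_h2_1540
  have a12 : levelCheckRange Bpts hL2 [hL3, hL4] 0 1820 = true :=
    levelCheckRange_add Bpts hL2 [hL3, hL4] 0 1680 140 a11 lvl_h2_1680
  have a13 : levelCheckRange Bpts hL2 [hL3, hL4] 0 1960 = true :=
    levelCheckRange_add Bpts hL2 [hL3, hL4] 0 1820 140 a12 lvl_h2_1820
  have a14 : levelCheckRange Bpts hL2 [hL3, hL4] 0 2100 = true :=
    levelCheckRange_add Bpts hL2 [hL3, hL4] 0 1960 140 a13 lvl_h2_1960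
  have a15 : levelCheckRange Bpts hL2 [hL3, hL4] 0 2240 = true :=
    levelCheckRange_add Bpts hL2 [hL3, hL4] 0 2100 140 a14 lvl_h2_2100
  have a16 : levelCheckRange Bpts hL2 [hL3, hL4] 0 2380 = true :=
    levelCheckRange_add Bpts hL2 [hL3, hL4] 0 2240 140 a15 lvl_h2_2240
  have a17 : levelCheckRange Bpts hL2 [hL3, hL4] 0 2520 = true :=
    levelCheckRange_add Bpts hL2 [hL3, hL4] 0 2380 140 a16 lvl_h2_2380
  have a18 : levelCheckRange Bpts hL2 [hL3, hL4] 0 2660 = true :=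
    levelCheckRange_add Bpts hL2 [hL3, hL4] 0 2520 140 a17 lvl_h2_2520
  have a19 : levelCheckRange Bpts hL2 [hL3, hL4] 0 2800 = true :=
    levelCheckRange_add Bpts hL2 [hL3, hL4] 0 2660 140 a18 lvl_h2_2660
  have a20 : levelCheckRange Bpts hL2 [hL3, hL4] 0 2940 = true :=
    levelCheckRange_add Bpts hL2 [hL3, hL4] 0 2800 140 a19 lvl_h2_2800
  have a21 : levelCheckRange Bpts hL2 [hL3, hL4] 0 3080 = true :=
    levelCheckRange_add Bpts hL2 [hL3, hL4] 0 2940 140 a20 lvl_h2_2940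
  have a22 : levelCheckRange Bpts hL2 [hL3, hL4] 0 3220 = true :=
    levelCheckRange_add Bpts hL2 [hL3, hL4] 0 3080 140 a21 lvl_h2_3080
  have a23 : levelCheckRange Bpts hL2 [hL3, hL4] 0 3360 = true :=
    levelCheckRange_add Bpts hL2 [hL3, hL4] 0 3220 140 a22 lvl_h2_3220
  have a24 : levelCheckRange Bpts hL2 [hL3, hL4] 0 3500 = true :=
    levelCheckRange_add Bpts hL2 [hL3, hL4] 0 3360 140 a23 lvl_h2_3360
  have a25 : levelCheckRange Bpts hL2 [hL3, hL4] 0 3640 = true :=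
    levelCheckRange_add Bpts hL2 [hL3, hL4] 0 3500 140 a24 lvl_h2_3500
  have a26 : levelCheckRange Bpts hL2 [hL3, hL4] 0 3780 = true :=
    levelCheckRange_add Bpts hL2 [hL3, hL4] 0 3640 140 a25 lvl_h2_3640
  have a27 : levelCheckRange Bpts hL2 [hL3, hL4] 0 3920 = true :=
    levelCheckRange_add Bpts hL2 [hL3, hL4] 0 3780 140 a26 lvl_h2_3780
  have a28 : levelCheckRange Bpts hL2 [hL3, hL4] 0 4060 = true :=
    levelCheckRange_add Bpts hL2 [hL3, hL4] 0 3920 140 a27 lvl_h2_3920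
  exact a28

theorem lvl_h3 : levelCheckRange Bpts hL3 [hL4] 0 4060 = true := by
  have a0 : levelCheckRange Bpts hL3 [hL4] 0 275 = true := lvl_h3_0
  have a1 : levelCheckRange Bpts hL3 [hL4] 0 550 = true :=
    levelCheckRange_add Bpts hL3 [hL4] 0 275 275 a0 lvl_h3_275
  have a2 : levelCheckRange Bpts hL3 [hL4] 0 825 = true :=
    levelCheckRange_add Bpts hL3 [hL4] 0 550 275 a1 lvl_h3_550
  have a3 : levelCheckRange Bpts hL3 [hL4] 0 1100 = true :=
    levelCheckRange_add Bpts hL3 [hL4] 0 825 275 a2 lvl_h3_825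
  have a4 : levelCheckRange Bpts hL3 [hL4] 0 1375 = true :=
    levelCheckRange_add Bpts hL3 [hL4] 0 1100 275 a3 lvl_h3_1100
  have a5 : levelCheckRange Bpts hL3 [hL4] 0 1650 = true :=
    levelCheckRange_add Bpts hL3 [hL4] 0 1375 275 a4 lvl_h3_1375
  have a6 : levelCheckRange Bpts hL3 [hL4] 0 1925 = true :=
    levelCheckRange_add Bpts hL3 [hL4] 0 1650 275 a5 lvl_h3_1650
  have a7 : levelCheckRange Bpts hL3 [hL4] 0 2200 = true :=
    levelCheckRange_add Bpts hL3 [hL4] 0 1925 275 a6 lvl_h3_1925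
  have a8 : levelCheckRange Bpts hL3 [hL4] 0 2475 = true :=
    levelCheckRange_add Bpts hL3 [hL4] 0 2200 275 a7 lvl_h3_2200
  have a9 : levelCheckRange Bpts hL3 [hL4] 0 2750 = true :=
    levelCheckRange_add Bpts hL3 [hL4] 0 2475 275 a8 lvl_h3_2475
  have a10 : levelCheckRange Bpts hL3 [hL4] 0 3025 = true :=
    levelCheckRange_add Bpts hL3 [hL4] 0 2750 275 a9 lvl_h3_2750
  have a11 : levelCheckRange Bpts hL3 [hL4] 0 3300 = true :=
    levelCheckRange_add Bpts hL3 [hL4] 0 3025 275 a10 lvl_h3_3025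
  have a12 : levelCheckRange Bpts hL3 [hL4] 0 3575 = true :=
    levelCheckRange_add Bpts hL3 [hL4] 0 3300 275 a11 lvl_h3_3300
  have a13 : levelCheckRange Bpts hL3 [hL4] 0 3850 = true :=
    levelCheckRange_add Bpts hL3 [hL4] 0 3575 275 a12 lvl_h3_3575
  have a14 : levelCheckRange Bpts hL3 [hL4] 0 4060 = true :=
    levelCheckRange_add Bpts hL3 [hL4] 0 3850 210 a13 lvl_h3_3850
  exact a14

theorem lvl_h4 : levelCheckRange Bpts hL4 [] 0 4060 = true := by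
  have a0 : levelCheckRange Bpts hL4 [] 0 1015 = true := lvl_h4_0
  have a1 : levelCheckRange Bpts hL4 [] 0 2030 = true :=
    levelCheckRange_add Bpts hL4 [] 0 1015 1015 a0 lvl_h4_1015
  have a2 : levelCheckRange Bpts hL4 [] 0 3045 = true :=
    levelCheckRange_add Bpts hL4 [] 0 2030 1015 a1 lvl_h4_2030
  have a3 : levelCheckRange Bpts hL4 [] 0 4060 = true :=
    levelCheckRange_add Bpts hL4 [] 0 3045 1015 a2 lvl_h4_3045
  exact a3

theorem lvl_t1 : levelCheckRange Bpts tL1 [tL2, tL3] 0 4060 = true := by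
  have a0 : levelCheckRange Bpts tL1 [tL2, tL3] 0 175 = true := lvl_t1_0
  have a1 : levelCheckRange Bpts tL1 [tL2, tL3] 0 350 = true :=
    levelCheckRange_add Bpts tL1 [tL2, tL3] 0 175 175 a0 lvl_t1_175
  have a2 : levelCheckRange Bpts tL1 [tL2, tL3] 0 525 = true :=
    levelCheckRange_add Bpts tL1 [tL2, tL3] 0 350 175 a1 lvl_t1_350
  have a3 : levelCheckRange Bpts tL1 [tL2, tL3] 0 700 = true :=
    levelCheckRange_add Bpts tL1 [tL2, tL3] 0 525 175 a2 lvl_t1_525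
  have a4 : levelCheckRange Bpts tL1 [tL2, tL3] 0 875 = true :=
    levelCheckRange_add Bpts tL1 [tL2, tL3] 0 700 175 a3 lvl_t1_700
  have a5 : levelCheckRange Bpts tL1 [tL2, tL3] 0 1050 = true :=
    levelCheckRange_add Bpts tL1 [tL2, tL3] 0 875 175 a4 lvl_t1_875
  have a6 : levelCheckRange Bpts tL1 [tL2, tL3] 0 1225 = true :=
    levelCheckRange_add Bpts tL1 [tL2, tL3] 0 1050 175 a5 lvl_t1_1050
  have a7 : levelCheckRange Bpts tL1 [tL2, tL3] 0 1400 = true :=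
    levelCheckRange_add Bpts tL1 [tL2, tL3] 0 1225 175 a6 lvl_t1_1225
  have a8 : levelCheckRange Bpts tL1 [tL2, tL3] 0 1575 = true :=
    levelCheckRange_add Bpts tL1 [tL2, tL3] 0 1400 175 a7 lvl_t1_1400
  have a9 : levelCheckRange Bpts tL1 [tL2, tL3] 0 1750 = true :=
    levelCheckRange_add Bpts tL1 [tL2, tL3] 0 1575 175 a8 lvl_t1_1575
  have a10 : levelCheckRange Bpts tL1 [tL2, tL3] 0 1925 = true :=
    levelCheckRange_add Bpts tL1 [tL2, tL3] 0 1750 175 a9 lvl_t1_1750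
  have a11 : levelCheckRange Bpts tL1 [tL2, tL3] 0 2100 = true :=
    levelCheckRange_add Bpts tL1 [tL2, tL3] 0 1925 175 a10 lvl_t1_1925
  have a12 : levelCheckRange Bpts tL1 [tL2, tL3] 0 2275 = true :=
    levelCheckRange_add Bpts tL1 [tL2, tL3] 0 2100 175 a11 lvl_t1_2100
  have a13 : levelCheckRange Bpts tL1 [tL2, tL3] 0 2450 = true :=
    levelCheckRange_add Bpts tL1 [tL2, tL3] 0 2275 175 a12 lvl_t1_2275
  have a14 : levelCheckRange Bpts tL1 [tL2, tL3] 0 2625 = true :=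
    levelCheckRange_add Bpts tL1 [tL2, tL3] 0 2450 175 a13 lvl_t1_2450
  have a15 : levelCheckRange Bpts tL1 [tL2, tL3] 0 2800 = true :=
    levelCheckRange_add Bpts tL1 [tL2, tL3] 0 2625 175 a14 lvl_t1_2625
  have a16 : levelCheckRange Bpts tL1 [tL2, tL3] 0 2975 = true :=
    levelCheckRange_add Bpts tL1 [tL2, tL3] 0 2800 175 a15 lvl_t1_2800
  have a17 : levelCheckRange Bpts tL1 [tL2, tL3] 0 3150 = true :=
    levelCheckRange_add Bpts tL1 [tL2, tL3] 0 2975 175 a16 lvl_t1_2975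
  have a18 : levelCheckRange Bpts tL1 [tL2, tL3] 0 3325 = true :=
    levelCheckRange_add Bpts tL1 [tL2, tL3] 0 3150 175 a17 lvl_t1_3150
  have a19 : levelCheckRange Bpts tL1 [tL2, tL3] 0 3500 = true :=
    levelCheckRange_add Bpts tL1 [tL2, tL3] 0 3325 175 a18 lvl_t1_3325
  have a20 : levelCheckRange Bpts tL1 [tL2, tL3] 0 3675 = true :=
    levelCheckRange_add Bpts tL1 [tL2, tL3] 0 3500 175 a19 lvl_t1_3500
  have a21 : levelCheckRange Bpts tL1 [tL2, tL3] 0 3850 = true :=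
    levelCheckRange_add Bpts tL1 [tL2, tL3] 0 3675 175 a20 lvl_t1_3675
  have a22 : levelCheckRange Bpts tL1 [tL2, tL3] 0 4025 = true :=
    levelCheckRange_add Bpts tL1 [tL2, tL3] 0 3850 175 a21 lvl_t1_3850
  have a23 : levelCheckRange Bpts tL1 [tL2, tL3] 0 4060 = true :=
    levelCheckRange_add Bpts tL1 [tL2, tL3] 0 4025 35 a22 lvl_t1_4025
  exact a23

theorem lvl_t2 : levelCheckRange Bpts tL2 [tL3] 0 4060 = true := by
  have a0 : levelCheckRange Bpts tL2 [tL3] 0 275 = true := lvl_t2_0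
  have a1 : levelCheckRange Bpts tL2 [tL3] 0 550 = true :=
    levelCheckRange_add Bpts tL2 [tL3] 0 275 275 a0 lvl_t2_275
  have a2 : levelCheckRange Bpts tL2 [tL3] 0 825 = true :=
    levelCheckRange_add Bpts tL2 [tL3] 0 550 275 a1 lvl_t2_550
  have a3 : levelCheckRange Bpts tL2 [tL3] 0 1100 = true :=
    levelCheckRange_add Bpts tL2 [tL3] 0 825 275 a2 lvl_t2_825
  have a4 : levelCheckRange Bpts tL2 [tL3] 0 1375 = true :=
    levelCheckRange_add Bpts tL2 [tL3] 0 1100 275 a3 lvl_t2_1100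
  have a5 : levelCheckRange Bpts tL2 [tL3] 0 1650 = true :=
    levelCheckRange_add Bpts tL2 [tL3] 0 1375 275 a4 lvl_t2_1375
  have a6 : levelCheckRange Bpts tL2 [tL3] 0 1925 = true :=
    levelCheckRange_add Bpts tL2 [tL3] 0 1650 275 a5 lvl_t2_1650
  have a7 : levelCheckRange Bpts tL2 [tL3] 0 2200 = true :=
    levelCheckRange_add Bpts tL2 [tL3] 0 1925 275 a6 lvl_t2_1925
  have a8 : levelCheckRange Bpts tL2 [tL3] 0 2475 = true :=
    levelCheckRange_add Bpts tL2 [tL3] 0 2200 275 a7 lvl_t2_2200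
  have a9 : levelCheckRange Bpts tL2 [tL3] 0 2750 = true :=
    levelCheckRange_add Bpts tL2 [tL3] 0 2475 275 a8 lvl_t2_2475
  have a10 : levelCheckRange Bpts tL2 [tL3] 0 3025 = true :=
    levelCheckRange_add Bpts tL2 [tL3] 0 2750 275 a9 lvl_t2_2750
  have a11 : levelCheckRange Bpts tL2 [tL3] 0 3300 = true :=
    levelCheckRange_add Bpts tL2 [tL3] 0 3025 275 a10 lvl_t2_3025
  have a12 : levelCheckRange Bpts tL2 [tL3] 0 3575 = true :=
    levelCheckRange_add Bpts tL2 [tL3] 0 3300 275 a11 lvl_t2_3300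
  have a13 : levelCheckRange Bpts tL2 [tL3] 0 3850 = true :=
    levelCheckRange_add Bpts tL2 [tL3] 0 3575 275 a12 lvl_t2_3575
  have a14 : levelCheckRange Bpts tL2 [tL3] 0 4060 = true :=
    levelCheckRange_add Bpts tL2 [tL3] 0 3850 210 a13 lvl_t2_3850
  exact a14

theorem lvl_t3 : levelCheckRange Bpts tL3 [] 0 4060 = true := by
  have a0 : levelCheckRange Bpts tL3 [] 0 2030 = true := lvl_t3_0
  have a1 : levelCheckRange Bpts tL3 [] 0 4060 = true :=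
    levelCheckRange_add Bpts tL3 [] 0 2030 2030 a0 lvl_t3_2030
  exact a1


end Cfsg.Agent.Lib.Helper95.Ru
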