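import Mathlib
import Cfsg.Agent.Lib.Helper95.Ru.Defs
import Cfsg.Agent.Lib.Helper62.RuKeyC1
import Cfsg.Agent.Lib.Helper66.RuKeyC3

/-!
# Rudvalis group on 4060 points (S0459): generic glue lemmas (helper95)

Orbit certificates without Schreier pairs, invariance of the orbit of a checked level, entries beyond the table,
and the numeric form of the sublist condition of the primitivity criterion.
-/

set_option autoImplicit false

namespace Cfsg.Agent.Lib.Helper95.Ru

open Cfsg.Agent.Lib.Helper62.RuKey Cfsg.Agent.Lib.Helper66.RuKey

theorem fm1 {α : Type*} {p : α → Prop} {a : α} (ha : p a) : ∀ x ∈ [a], p x := by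
  intro x hx
  simp only [List.mem_cons, List.not_mem_nil, or_false] at hx
  subst hx; exact ha

theorem fm2 {α : Type*} {p : α → Prop} {a b : α} (ha : p a) (hb : p b) : ∀ x ∈ [a, b], p x := by
  intro x hx
  simp only [List.mem_cons, List.not_mem_nil, or_false] at hx
  rcases hx with rfl | rfl <;> assumption

theorem fm3 {α : Type*} {p : α → Prop} {a b c : α} (ha : p a) (hb : p b) (hc : p c) :
    ∀ x ∈ [a, b, c], p x := by
  intro x hx
  simp only [List.mem_cons, List.not_mem_nil, or_false] at hx
  rcases hx with rfl | rfl | rfl <;> assumption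

theorem mem_genSet_closure (GP : List P) : ∀ g ∈ GP, g ∈ Subgroup.closure (genSet GP) :=
  fun _ hg => Subgroup.subset_closure (show _ ∈ genSet GP from hg)

theorem closure_genSet_le (GP : List P) (K : Subgroup P) (h : ∀ g ∈ GP, g ∈ K) :
    Subgroup.closure (genSet GP) ≤ K :=
  (Subgroup.closure_le K).mpr (fun g hg => h g hg)

/-- An orbit certificate: every point of the table is the image of the root under its transversal word. -/
theorem orbit_sound (L : Lvl) (GP : List P) (hL : RepL L.LT GP) (hβ : L.β < 4060)
    (hchk : orbitCheck L = true) (x : Nat) (hx : x < 4060) (hin : inOrb L.W x = true) :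
    ∃ g ∈ Subgroup.closure (genSet GP), g ⟨L.β, hβ⟩ = ⟨x, hx⟩ := by
  refine ⟨wP GP (uw L x), wP_mem _ GP (mem_genSet_closure GP) _, ?_⟩
  apply Fin.ext
  rw [wP_apply hL]
  have h := allBelow_spec hchk x hx
  simp only [hin, Bool.not_true, Bool.false_or] at h
  exact Nat.eq_of_beq_eq_true h

/-- A forward generator of a checked level maps the orbit into itself. -/
theorem gen_mapsTo (D0 : List Nat) (L : Lvl) (Ls : List Lvl) (GP : List P) (hL : RepL L.LT GP)
    (hchk : levelCheckRange D0 L Ls 0 4060 = true) (g : P) (hg : g ∈ GP) (x : Fin 4060)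
    (hx : inOrb L.W x.val = true) : inOrb L.W (g x).val = true := by
  obtain ⟨j, hj, rfl⟩ := List.getElem_of_mem hg
  have hlen : L.LT.length = GP.length := List.Forall₂.length_eq hL
  have h := (levelCheckRange_spec D0 L Ls 0 4060 hchk x.val (Nat.zero_le _)
    (by have := x.isLt; omega) hx).2 j (by omega)
  have hrep : Rep (letT L.LT (Nat.mul 2 j)) (letP GP (Nat.mul 2 j)) := rep_letP hL _
  have hlet : letP GP (Nat.mul 2 j) = GP[j] := by
    unfold letP
    have h1 : Nat.mul 2 j / 2 = j := by show 2 * j / 2 = j; omega
    have h2 : Nat.mul 2 j % 2 = 0 := by show 2 * j % 2 = 0; omega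
    rw [h1, h2, List.getElem?_eq_getElem hj]
    simp
  rw [hlet] at hrep
  rw [hrep x]
  simp only [pairCheck, Bool.and_eq_true] at h
  exact h.1

/-- The group generated by the generators of a checked level preserves the orbit. -/
theorem closure_mapsTo (W : Nat) (GP : List P)
    (hgen : ∀ g ∈ GP, ∀ x : Fin 4060, inOrb W x.val = true → inOrb W (g x).val = true)
    (g : P) (hg : g ∈ Subgroup.closure (genSet GP)) (x : Fin 4060) (hx : inOrb W x.val = true) :
    inOrb W (g x).val = true := by
  have key : ∀ g ∈ Subgroup.closure (genSet GP),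
      ∀ x : Fin 4060, inOrb W x.val = true → inOrb W (g x).val = true := by
    intro g hg
    induction hg using Subgroup.closure_induction with
    | mem g hg => exact hgen g hg
    | one => exact fun x hx => hx
    | mul a b _ _ ha hb => exact fun x hx => ha _ (hb x hx)
    | inv a _ ha =>
      intro x hx
      exact Equiv.Perm.perm_symm_on_of_perm_on_finite (f := a)
        (p := fun x : Fin 4060 => inOrb W x.val = true) ha hx
  exact key g hg x hx

/-- Points beyond the table read as entry `0`, which is not the sentinel. -/
theorem inOrb_of_ge (W : Nat) (hW : Nat.shiftRight W 259840 = 0) (x : Nat) (hx : 4060 ≤ x) :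
    inOrb W x = true := by
  have h0 : Nat.shiftRight W (Nat.mul 64 x) = 0 := by
    have e : Nat.mul 64 x = 259840 + (64 * x - 259840) := by
      show 64 * x = 259840 + (64 * x - 259840); omega
    rw [e]
    show W >>> (259840 + (64 * x - 259840)) = 0
    rw [Nat.shiftRight_add]
    have hW' : W >>> 259840 = 0 := hW
    rw [hW', Nat.zero_shiftRight]
  unfold inOrb wcode
  rw [h0]
  rfl

/-- The sublist condition of the primitivity criterion, from the list of cardinalities. -/
theorem sublist_cond {α : Type*} (orbs : List (Finset α)) (cs : List ℕ) (n : ℕ)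
    (hcs : orbs.map Finset.card = cs)
    (hnum : ∀ J ∈ cs.sublists, J ≠ [] → J ≠ cs → ¬ (1 + J.sum) ∣ n) :
    ∀ I : List (Finset α), I.Sublist orbs → I ≠ [] → I ≠ orbs →
      ¬ (1 + (I.map Finset.card).sum) ∣ n := by
  intro I hI hne hne'
  apply hnum (I.map Finset.card)
  · rw [List.mem_sublists, ← hcs]; exact hI.map _
  · intro h; exact hne (List.map_eq_nil_iff.mp h)
  · intro h
    apply hne'
    apply hI.eq_of_length
    have := congrArg List.length h
    rw [← hcs] at this
    simpa using this

end Cfsg.Agent.Lib.Helper95.Ru
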