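import Mathlib
import Cfsg.Agent.Lib.Helper95.Ru.Defs
import Cfsg.Agent.Lib.Helper95.Ru.DataH
import Cfsg.Agent.Lib.Helper95.Ru.DataT
import Cfsg.Agent.Lib.Helper95.Ru.DataO
import Cfsg.Agent.Lib.Helper95.Ru.DataP
import Cfsg.Agent.Lib.Helper95.Ru.ChkBasic
import Cfsg.Agent.Lib.Helper95.Ru.ChkWord
import Cfsg.Agent.Lib.Helper95.Ru.ChkExtra
import Cfsg.Agent.Lib.Helper95.Ru.Comb
import Cfsg.Agent.Lib.Helper95.Ru.Gen
import Cfsg.Agent.Lib.Helper62.RuKeyC1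
import Cfsg.Agent.Lib.Helper26.RuKeyC2
import Cfsg.Agent.Lib.Helper66.RuKeyC3
import Cfsg.Agent.Lib.Helper63.RuKeyD3

/-!
# Rudvalis group on 4060 points (S0459): the two stabiliser chains (helper95)

The permutations behind the tables, the chain `KH1 ≥ KH2 ≥ KH3 ≥ KH4` of the Rudvalis group (base `0, 2, 3, 5`) and the
chain `JT1 ≥ JT2 ≥ JT3` of the Tits subgroup (base `2, 3, 5`), with their orders.
-/

set_option autoImplicit false

namespace Cfsg.Agent.Lib.Helper95.Ru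

open Cfsg.Agent.Lib.Helper62.RuKey Cfsg.Agent.Lib.Helper26.RuKey Cfsg.Agent.Lib.Helper66.RuKey
  Cfsg.Agent.Lib.Helper63.RuKey

/-! ### the permutations -/

noncomputable def gh1_0 : P := mkPerm hT1_0 hT1_0i valid_h1_0
noncomputable def gh1_1 : P := mkPerm hT1_1 hT1_1i valid_h1_1
noncomputable def gh2_0 : P := mkPerm hT2_0 hT2_0i valid_h2_0
noncomputable def gh2_1 : P := mkPerm hT2_1 hT2_1i valid_h2_1
noncomputable def gh3_0 : P := mkPerm hT3_0 hT3_0i valid_h3_0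
noncomputable def gh3_1 : P := mkPerm hT3_1 hT3_1i valid_h3_1
noncomputable def gh3_2 : P := mkPerm hT3_2 hT3_2i valid_h3_2
noncomputable def gh4_0 : P := mkPerm hT4_0 hT4_0i valid_h4_0
noncomputable def gh4_1 : P := mkPerm hT4_1 hT4_1i valid_h4_1
noncomputable def gt1_0 : P := mkPerm tT1_0 tT1_0i valid_t1_0
noncomputable def gt1_1 : P := mkPerm tT1_1 tT1_1i valid_t1_1
noncomputable def gt2_0 : P := mkPerm tT2_0 tT2_0i valid_t2_0
noncomputable def gt2_1 : P := mkPerm tT2_1 tT2_1i valid_t2_1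
noncomputable def gt3_0 : P := mkPerm tT3_0 tT3_0i valid_t3_0
noncomputable def gt3_1 : P := mkPerm tT3_1 tT3_1i valid_t3_1

noncomputable def GH1 : List P := [gh1_0, gh1_1]
noncomputable def GH2 : List P := [gh2_0, gh2_1]
noncomputable def GH3 : List P := [gh3_0, gh3_1, gh3_2]
noncomputable def GH4 : List P := [gh4_0, gh4_1]
noncomputable def GT1 : List P := [gt1_0, gt1_1]
noncomputable def GT2 : List P := [gt2_0, gt2_1]
noncomputable def GT3 : List P := [gt3_0, gt3_1]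

theorem repL_h1 : RepL hLT1 GH1 :=
  List.Forall₂.cons ⟨rep_mkPerm _ _ _, rep_mkPerm_inv _ _ _⟩
    (List.Forall₂.cons ⟨rep_mkPerm _ _ _, rep_mkPerm_inv _ _ _⟩ List.Forall₂.nil)
theorem repL_h2 : RepL hLT2 GH2 :=
  List.Forall₂.cons ⟨rep_mkPerm _ _ _, rep_mkPerm_inv _ _ _⟩
    (List.Forall₂.cons ⟨rep_mkPerm _ _ _, rep_mkPerm_inv _ _ _⟩ List.Forall₂.nil)
theorem repL_h3 : RepL hLT3 GH3 :=
  List.Forall₂.cons ⟨rep_mkPerm _ _ _, rep_mkPerm_inv _ _ _⟩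
    (List.Forall₂.cons ⟨rep_mkPerm _ _ _, rep_mkPerm_inv _ _ _⟩
      (List.Forall₂.cons ⟨rep_mkPerm _ _ _, rep_mkPerm_inv _ _ _⟩ List.Forall₂.nil))
theorem repL_h4 : RepL hLT4 GH4 :=
  List.Forall₂.cons ⟨rep_mkPerm _ _ _, rep_mkPerm_inv _ _ _⟩
    (List.Forall₂.cons ⟨rep_mkPerm _ _ _, rep_mkPerm_inv _ _ _⟩ List.Forall₂.nil)
theorem repL_t1 : RepL tLT1 GT1 :=
  List.Forall₂.cons ⟨rep_mkPerm _ _ _, rep_mkPerm_inv _ _ _⟩
    (List.Forall₂.cons ⟨rep_mkPerm _ _ _, rep_mkPerm_inv _ _ _⟩ List.Forall₂.nil)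
theorem repL_t2 : RepL tLT2 GT2 :=
  List.Forall₂.cons ⟨rep_mkPerm _ _ _, rep_mkPerm_inv _ _ _⟩
    (List.Forall₂.cons ⟨rep_mkPerm _ _ _, rep_mkPerm_inv _ _ _⟩ List.Forall₂.nil)
theorem repL_t3 : RepL tLT3 GT3 :=
  List.Forall₂.cons ⟨rep_mkPerm _ _ _, rep_mkPerm_inv _ _ _⟩
    (List.Forall₂.cons ⟨rep_mkPerm _ _ _, rep_mkPerm_inv _ _ _⟩ List.Forall₂.nil)

/-! ### all generators are linear on patterns -/

theorem linA_h1 : ∀ g ∈ GH1, g ∈ linGroup PT :=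
  fm2 (mem_linGroup_of_linCheck PT hT1_0 hC1_0 _ (rep_mkPerm _ _ _) lin_h1_0)
    (mem_linGroup_of_linCheck PT hT1_1 hC1_1 _ (rep_mkPerm _ _ _) lin_h1_1)
theorem linA_h2 : ∀ g ∈ GH2, g ∈ linGroup PT :=
  fm2 (mem_linGroup_of_linCheck PT hT2_0 hC2_0 _ (rep_mkPerm _ _ _) lin_h2_0)
    (mem_linGroup_of_linCheck PT hT2_1 hC2_1 _ (rep_mkPerm _ _ _) lin_h2_1)
theorem linA_h3 : ∀ g ∈ GH3, g ∈ linGroup PT :=
  fm3 (mem_linGroup_of_linCheck PT hT3_0 hC3_0 _ (rep_mkPerm _ _ _) lin_h3_0)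
    (mem_linGroup_of_linCheck PT hT3_1 hC3_1 _ (rep_mkPerm _ _ _) lin_h3_1)
    (mem_linGroup_of_linCheck PT hT3_2 hC3_2 _ (rep_mkPerm _ _ _) lin_h3_2)
theorem linA_h4 : ∀ g ∈ GH4, g ∈ linGroup PT :=
  fm2 (mem_linGroup_of_linCheck PT hT4_0 hC4_0 _ (rep_mkPerm _ _ _) lin_h4_0)
    (mem_linGroup_of_linCheck PT hT4_1 hC4_1 _ (rep_mkPerm _ _ _) lin_h4_1)
theorem linA_t1 : ∀ g ∈ GT1, g ∈ linGroup PT :=
  fm2 (mem_linGroup_of_linCheck PT tT1_0 tC1_0 _ (rep_mkPerm _ _ _) lin_t1_0)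
    (mem_linGroup_of_linCheck PT tT1_1 tC1_1 _ (rep_mkPerm _ _ _) lin_t1_1)
theorem linA_t2 : ∀ g ∈ GT2, g ∈ linGroup PT :=
  fm2 (mem_linGroup_of_linCheck PT tT2_0 tC2_0 _ (rep_mkPerm _ _ _) lin_t2_0)
    (mem_linGroup_of_linCheck PT tT2_1 tC2_1 _ (rep_mkPerm _ _ _) lin_t2_1)
theorem linA_t3 : ∀ g ∈ GT3, g ∈ linGroup PT :=
  fm2 (mem_linGroup_of_linCheck PT tT3_0 tC3_0 _ (rep_mkPerm _ _ _) lin_t3_0)
    (mem_linGroup_of_linCheck PT tT3_1 tC3_1 _ (rep_mkPerm _ _ _) lin_t3_1)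

theorem hrigid : ∀ g ∈ linGroup PT,
    (∀ d ∈ Bpts, ∀ hd : d < 4060, (g ⟨d, hd⟩).val = d) → g = 1 :=
  fun g hg hfix => eq_one_of_fix_basis_bool PT CT Bpts patMono_ok span_ok (by decide) g hg hfix

/-! ### the chains -/

local notation "KH1" => Subgroup.closure (genSet GH1)
local notation "KH2" => Subgroup.closure (genSet GH2)
local notation "KH3" => Subgroup.closure (genSet GH3)
local notation "KH4" => Subgroup.closure (genSet GH4)
local notation "JT1" => Subgroup.closure (genSet GT1)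
local notation "JT2" => Subgroup.closure (genSet GT2)
local notation "JT3" => Subgroup.closure (genSet GT3)

theorem gens_h2_mem (K : Subgroup P) (hK : ∀ g ∈ GH1, g ∈ K) : ∀ g ∈ GH2, g ∈ K :=
  fm2 (mem_of_wordCheck hLT1 GH1 repL_h1 hT2_0 _ (rep_mkPerm _ _ _) _ word_h2_0 K hK)
    (mem_of_wordCheck hLT1 GH1 repL_h1 hT2_1 _ (rep_mkPerm _ _ _) _ word_h2_1 K hK)
theorem gens_h3_mem (K : Subgroup P) (hK : ∀ g ∈ GH2, g ∈ K) : ∀ g ∈ GH3, g ∈ K :=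
  fm3 (mem_of_wordCheck hLT2 GH2 repL_h2 hT3_0 _ (rep_mkPerm _ _ _) _ word_h3_0 K hK)
    (mem_of_wordCheck hLT2 GH2 repL_h2 hT3_1 _ (rep_mkPerm _ _ _) _ word_h3_1 K hK)
    (mem_of_wordCheck hLT2 GH2 repL_h2 hT3_2 _ (rep_mkPerm _ _ _) _ word_h3_2 K hK)
theorem gens_h4_mem (K : Subgroup P) (hK : ∀ g ∈ GH3, g ∈ K) : ∀ g ∈ GH4, g ∈ K :=
  fm2 (mem_of_wordCheck hLT3 GH3 repL_h3 hT4_0 _ (rep_mkPerm _ _ _) _ word_h4_0 K hK)
    (mem_of_wordCheck hLT3 GH3 repL_h3 hT4_1 _ (rep_mkPerm _ _ _) _ word_h4_1 K hK)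
theorem gens_t1_mem (K : Subgroup P) (hK : ∀ g ∈ GH2, g ∈ K) : ∀ g ∈ GT1, g ∈ K :=
  fm2 (mem_of_wordCheck hLT2 GH2 repL_h2 tT1_0 _ (rep_mkPerm _ _ _) _ word_t1_0 K hK)
    (mem_of_wordCheck hLT2 GH2 repL_h2 tT1_1 _ (rep_mkPerm _ _ _) _ word_t1_1 K hK)
theorem gens_t2_mem (K : Subgroup P) (hK : ∀ g ∈ GT1, g ∈ K) : ∀ g ∈ GT2, g ∈ K :=
  fm2 (mem_of_wordCheck tLT1 GT1 repL_t1 tT2_0 _ (rep_mkPerm _ _ _) _ word_t2_0 K hK)
    (mem_of_wordCheck tLT1 GT1 repL_t1 tT2_1 _ (rep_mkPerm _ _ _) _ word_t2_1 K hK)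
theorem gens_t3_mem (K : Subgroup P) (hK : ∀ g ∈ GT2, g ∈ K) : ∀ g ∈ GT3, g ∈ K :=
  fm2 (mem_of_wordCheck tLT2 GT2 repL_t2 tT3_0 _ (rep_mkPerm _ _ _) _ word_t3_0 K hK)
    (mem_of_wordCheck tLT2 GT2 repL_t2 tT3_1 _ (rep_mkPerm _ _ _) _ word_t3_1 K hK)

theorem KH2_le : KH2 ≤ KH1 := closure_genSet_le GH2 _ (gens_h2_mem _ (mem_genSet_closure GH1))
theorem KH3_le : KH3 ≤ KH2 := closure_genSet_le GH3 _ (gens_h3_mem _ (mem_genSet_closure GH2))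
theorem KH4_le : KH4 ≤ KH3 := closure_genSet_le GH4 _ (gens_h4_mem _ (mem_genSet_closure GH3))
theorem JT1_le : JT1 ≤ KH2 := closure_genSet_le GT1 _ (gens_t1_mem _ (mem_genSet_closure GH2))
theorem JT2_le : JT2 ≤ JT1 := closure_genSet_le GT2 _ (gens_t2_mem _ (mem_genSet_closure GT1))
theorem JT3_le : JT3 ≤ JT2 := closure_genSet_le GT3 _ (gens_t3_mem _ (mem_genSet_closure GT2))

/-! ### the Schreier–Sims levels -/

/-- The three conclusions of a sound level. -/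
def LevelOK (L : Lvl) (hβ : L.β < 4060) (K K' : Subgroup P) : Prop :=
  Nat.card K = orbCount L.W 4060 * Nat.card K' ∧
  (∀ g ∈ K, g ⟨L.β, hβ⟩ = ⟨L.β, hβ⟩ → g ∈ K') ∧
  (∀ x (hx : x < 4060), inOrb L.W x = true → ∃ g ∈ K, g ⟨L.β, hβ⟩ = ⟨x, hx⟩)

theorem sound_h4 : LevelOK hL4 (by decide) KH4 ⊥ :=
  level_sound (linGroup PT) Bpts hrigid hL4 GH4 repL_h4 linA_h4 [] []
  List.Forall₂.nil (by intro GP' h; cases h) ⊥ (by intro GP' h; cases h) bot_le (by decide)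
  (by intro h hh; rw [Subgroup.mem_bot.mp hh]; rfl) root_h4 lvl_h4

theorem sound_h3 : LevelOK hL3 (by decide) KH3 KH4 :=
  level_sound (linGroup PT) Bpts hrigid hL3 GH3 repL_h3 linA_h3 [hL4] [GH4]
  (List.Forall₂.cons repL_h4 List.Forall₂.nil) (fm1 linA_h4) KH4
  (fm1 (mem_genSet_closure GH4)) KH4_le (by decide)
  (fix_of_fixCheck hLT4 GH4 repL_h4 3 (by decide) fix_h4) root_h3 lvl_h3

theorem sound_h2 : LevelOK hL2 (by decide) KH2 KH3 :=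
  level_sound (linGroup PT) Bpts hrigid hL2 GH2 repL_h2 linA_h2 [hL3, hL4] [GH3, GH4]
  (List.Forall₂.cons repL_h3 (List.Forall₂.cons repL_h4 List.Forall₂.nil)) (fm2 linA_h3 linA_h4) KH3
  (fm2 (mem_genSet_closure GH3) (fun g hg => KH4_le (mem_genSet_closure GH4 g hg))) KH3_le (by decide)
  (fix_of_fixCheck hLT3 GH3 repL_h3 2 (by decide) fix_h3) root_h2 lvl_h2

theorem sound_h1 : LevelOK hL1 (by decide) KH1 KH2 :=
  level_sound (linGroup PT) Bpts hrigid hL1 GH1 repL_h1 linA_h1 [hL2, hL3, hL4]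
  [GH2, GH3, GH4]
  (List.Forall₂.cons repL_h2 (List.Forall₂.cons repL_h3 (List.Forall₂.cons repL_h4 List.Forall₂.nil)))
  (fm3 linA_h2 linA_h3 linA_h4) KH2
  (fm3 (mem_genSet_closure GH2) (fun g hg => KH3_le (mem_genSet_closure GH3 g hg))
    (fun g hg => KH3_le (KH4_le (mem_genSet_closure GH4 g hg)))) KH2_le (by decide)
  (fix_of_fixCheck hLT2 GH2 repL_h2 0 (by decide) fix_h2) root_h1 lvl_h1

theorem sound_t3 : LevelOK tL3 (by decide) JT3 ⊥ :=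
  level_sound (linGroup PT) Bpts hrigid tL3 GT3 repL_t3 linA_t3 [] []
  List.Forall₂.nil (by intro GP' h; cases h) ⊥ (by intro GP' h; cases h) bot_le (by decide)
  (by intro h hh; rw [Subgroup.mem_bot.mp hh]; rfl) root_t3 lvl_t3

theorem sound_t2 : LevelOK tL2 (by decide) JT2 JT3 :=
  level_sound (linGroup PT) Bpts hrigid tL2 GT2 repL_t2 linA_t2 [tL3] [GT3]
  (List.Forall₂.cons repL_t3 List.Forall₂.nil) (fm1 linA_t3) JT3
  (fm1 (mem_genSet_closure GT3)) JT3_le (by decide)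
  (fix_of_fixCheck tLT3 GT3 repL_t3 3 (by decide) fix_t3) root_t2 lvl_t2

theorem sound_t1 : LevelOK tL1 (by decide) JT1 JT2 :=
  level_sound (linGroup PT) Bpts hrigid tL1 GT1 repL_t1 linA_t1 [tL2, tL3] [GT2, GT3]
  (List.Forall₂.cons repL_t2 (List.Forall₂.cons repL_t3 List.Forall₂.nil)) (fm2 linA_t2 linA_t3) JT2
  (fm2 (mem_genSet_closure GT2) (fun g hg => JT3_le (mem_genSet_closure GT3 g hg))) JT2_le (by decide)
  (fix_of_fixCheck tLT2 GT2 repL_t2 2 (by decide) fix_t2) root_t1 lvl_t1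

/-! ### the orders -/

theorem card_KH4 : Nat.card KH4 = 20 := by
  have h := sound_h4.1
  rw [Subgroup.card_bot, Nat.mul_one] at h
  exact h.trans count_h4

theorem card_KH3 : Nat.card KH3 = 20480 := by
  have h := sound_h3.1
  rw [card_KH4] at h
  rw [h, show orbCount hL3.W 4060 = 1024 from count_h3]

theorem card_KH2 : Nat.card KH2 = 35942400 := by
  have h := sound_h2.1
  rw [card_KH3] at h
  rw [h, show orbCount hL2.W 4060 = 1755 from count_h2]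

theorem card_KH1 : Nat.card KH1 = 145926144000 := by
  have h := sound_h1.1
  rw [card_KH2] at h
  rw [h, show orbCount hL1.W 4060 = 4060 from count_h1]

theorem card_JT3 : Nat.card JT3 = 10 := by
  have h := sound_t3.1
  rw [Subgroup.card_bot, Nat.mul_one] at h
  exact h.trans count_t3

theorem card_JT2 : Nat.card JT2 = 10240 := by
  have h := sound_t2.1
  rw [card_JT3] at h
  rw [h, show orbCount tL2.W 4060 = 1024 from count_t2]

theorem card_JT1 : Nat.card JT1 = 17971200 := by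
  have h := sound_t1.1
  rw [card_JT2] at h
  rw [h, show orbCount tL1.W 4060 = 1755 from count_t1]

end Cfsg.Agent.Lib.Helper95.Ru
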