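import Cfsg.Agent.Lib.Helper95.Ru.Defs
import Cfsg.Agent.Lib.Helper95.Ru.DataH
import Cfsg.Agent.Lib.Helper95.Ru.DataT
import Cfsg.Agent.Lib.Helper95.Ru.DataP

set_option autoImplicit false

namespace Cfsg.Agent.Lib.Helper95.Ru

set_option maxRecDepth 1000000 in
theorem lvl_h1_1500 : levelCheckRange Bpts hL1 [hL2, hL3, hL4] 1500 60 = true := by decide +kernel
set_option maxRecDepth 1000000 in
theorem lvl_h1_1560 : levelCheckRange Bpts hL1 [hL2, hL3, hL4] 1560 60 = true := by decide +kernel
set_option maxRecDepth 1000000 in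
theorem lvl_h1_1620 : levelCheckRange Bpts hL1 [hL2, hL3, hL4] 1620 60 = true := by decide +kernel
set_option maxRecDepth 1000000 in
theorem lvl_h1_1680 : levelCheckRange Bpts hL1 [hL2, hL3, hL4] 1680 60 = true := by decide +kernel
set_option maxRecDepth 1000000 in
theorem lvl_h1_1740 : levelCheckRange Bpts hL1 [hL2, hL3, hL4] 1740 60 = true := by decide +kernel

end Cfsg.Agent.Lib.Helper95.Ru
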