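import Cfsg.Agent.Lib.Helper95.Ru.Defs
import Cfsg.Agent.Lib.Helper95.Ru.DataH
import Cfsg.Agent.Lib.Helper95.Ru.DataT
import Cfsg.Agent.Lib.Helper95.Ru.DataP

set_option autoImplicit false

namespace Cfsg.Agent.Lib.Helper95.Ru

set_option maxRecDepth 1000000 in
theorem lvl_t1_0 : levelCheckRange Bpts tL1 [tL2, tL3] 0 175 = true := by decide +kernel
set_option maxRecDepth 1000000 in
theorem lvl_t1_175 : levelCheckRange Bpts tL1 [tL2, tL3] 175 175 = true := by decide +kernel
set_option maxRecDepth 1000000 in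
theorem lvl_t1_350 : levelCheckRange Bpts tL1 [tL2, tL3] 350 175 = true := by decide +kernel
set_option maxRecDepth 1000000 in
theorem lvl_t1_525 : levelCheckRange Bpts tL1 [tL2, tL3] 525 175 = true := by decide +kernel

end Cfsg.Agent.Lib.Helper95.Ru
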