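import Mathlib
import Cfsg.Agent.Lib.Helper95.Ru.Chain
import Cfsg.Agent.Lib.Helper63.RuKeyA
import Cfsg.Agent.Lib.Helper90.RuKeyB
import Cfsg.Agent.Lib.Helper42.RuKeyD1
import Cfsg.Agent.Lib.Helper96.RuKeyD2

/-!
# Rudvalis group on 4060 points (S0459): transitivity, primitivity and simplicity of the big group (helper95)
-/

set_option autoImplicit false

namespace Cfsg.Agent.Lib.Helper95.Ru

open Cfsg.Agent.Lib.Helper62.RuKey Cfsg.Agent.Lib.Helper26.RuKey Cfsg.Agent.Lib.Helper66.RuKey
  Cfsg.Agent.Lib.Helper63.RuKey Cfsg.Agent.Lib.Helper90.RuKey Cfsg.Agent.Lib.Helper42.RuKey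
  Cfsg.Agent.Lib.Helper96.RuKey

local notation "KH1" => Subgroup.closure (genSet GH1)
local notation "KH2" => Subgroup.closure (genSet GH2)

theorem htrans : ∀ x : Fin 4060, ∃ g ∈ KH1, g 0 = x := by
  intro x
  obtain ⟨g, hg, hgx⟩ := sound_h1.2.2 x.val x.isLt (allBelow_spec full_h1 x.val x.isLt)
  exact ⟨g, hg, hgx⟩

theorem KH2_fix0 : ∀ g ∈ KH2, g (0 : Fin 4060) = 0 :=
  fix_of_fixCheck hLT2 GH2 repL_h2 0 (by decide) fix_h2

theorem pretrans_H : MulAction.IsPretransitive KH1 (Fin 4060) := isPretransitive_of_base KH1 htrans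

theorem card_stab_H : Nat.card (MulAction.stabilizer KH1 (0 : Fin 4060)) = 35942400 := by
  have h := card_stabilizer_mul KH1 htrans
  rw [card_KH1] at h
  exact Nat.eq_of_mul_eq_mul_right (by norm_num : 0 < 4060) (h.trans (by norm_num))

/-- The suborbit of length 1755. -/
def setR : Finset (Fin 4060) := Finset.univ.filter (fun x => inOrb hW2 x.val = true)
/-- The suborbit of length 2304. -/
def setO : Finset (Fin 4060) := Finset.univ.filter (fun x => inOrb oW1 x.val = true)

theorem card_setR : setR.card = 1755 := by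
  unfold setR
  rw [card_filter_fin 4060 (inOrb hW2), ← orbCount_eq]
  exact count_h2

theorem card_setO : setO.card = 2304 := by
  unfold setO
  rw [card_filter_fin 4060 (inOrb oW1), ← orbCount_eq]
  exact count_o1

theorem mem_setR (x : Fin 4060) : x ∈ setR ↔ inOrb hW2 x.val = true := by
  unfold setR; simp
theorem mem_setO (x : Fin 4060) : x ∈ setO ↔ inOrb oW1 x.val = true := by
  unfold setO; simp

theorem prim_H : MulAction.IsPreprimitive KH1 (Fin 4060) := by
  have := pretrans_H
  refine isPreprimitive_of_suborbits (G := KH1) (0 : Fin 4060) [setR, setO] ?_ ?_ ?_ ?_ ?_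
  · intro x hx
    have h := allBelow_spec coverH x.val x.isLt
    simp only [Bool.or_eq_true] at h
    rcases h with (h | h) | h
    · exact absurd (Fin.ext (Nat.eq_of_beq_eq_true h)) hx
    · exact ⟨setR, by simp, (mem_setR x).mpr h⟩
    · exact ⟨setO, by simp, (mem_setO x).mpr h⟩
  · apply fm2
    · rw [mem_setR]; simp [notR0]
    · rw [mem_setO]; simp [notO0]
  · simp only [List.pairwise_cons, List.mem_cons, List.not_mem_nil, or_false, forall_eq,
      IsEmpty.forall_iff, implies_true, List.Pairwise.nil, and_true]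
    rw [Finset.disjoint_left]
    intro x hxR hxO
    have h := allBelow_spec disjH x.val x.isLt
    rw [(mem_setR x).mp hxR, (mem_setO x).mp hxO] at h
    exact absurd h (by decide)
  · apply fm2
    · refine ⟨⟨2, by decide⟩, (mem_setR _).mpr root_h2.1, ?_⟩
      intro x hx
      obtain ⟨g, hg, hgx⟩ := sound_h2.2.2 x.val x.isLt ((mem_setR x).mp hx)
      exact ⟨⟨g, KH2_le hg⟩, KH2_fix0 g hg, hgx⟩
    · refine ⟨⟨1, by decide⟩, (mem_setO _).mpr rootO1, ?_⟩
      intro x hx
      obtain ⟨g, hg, hgx⟩ := orbit_sound oL1 GH2 repL_h2 (by decide) orbit_o1 x.val x.isLt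
        ((mem_setO x).mp hx)
      exact ⟨⟨g, KH2_le hg⟩, KH2_fix0 g hg, hgx⟩
  · rw [Fintype.card_fin]
    refine sublist_cond [setR, setO] [1755, 2304] 4060 ?_ (by decide)
    simp only [List.map, card_setR, card_setO]

theorem simple_H : IsSimpleGroup KH1 := by
  have := prim_H
  have : Nontrivial KH1 := by
    rw [← Finite.one_lt_card_iff_nontrivial, card_KH1]; norm_num
  refine isSimpleGroup_of_preprimitive_of_prime_generators (G := KH1) (X := Fin 4060) 29
    (by norm_num) (by rw [Fintype.card_fin]; norm_num) ?_ (Subtype.val ⁻¹' genSet GH1) ?_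
    Subgroup.closure_closure_coe_preimage
  · rw [card_KH1]; norm_num
  · rintro ⟨s, hs⟩ hmem
    have hmem' : s ∈ GH1 := hmem
    apply Subtype.ext
    rw [Subgroup.coe_pow, Subgroup.coe_one]
    exact fm2 (p := fun s : P => s ^ 29 = 1)
      (pow_eq_one_of_check hT1_0 gh1_0 29 (rep_mkPerm _ _ _) pow29_h1_0)
      (pow_eq_one_of_check hT1_1 gh1_1 29 (rep_mkPerm _ _ _) pow29_h1_1) s hmem'

end Cfsg.Agent.Lib.Helper95.Ru
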