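import Mathlib
import Cfsg.Agent.Lib.Helper95.Ru.Chain
import Cfsg.Agent.Lib.Helper63.RuKeyA
import Cfsg.Agent.Lib.Helper90.RuKeyB
import Cfsg.Agent.Lib.Helper42.RuKeyD1
import Cfsg.Agent.Lib.Helper96.RuKeyD2

/-!
# Rudvalis group on 4060 points (S0459): the Tits subgroup is simple (helper95)

The group `JT1` generated by two elements of order 13 of the point stabiliser has order 17971200, acts faithfully and
primitively on its orbit `XT` of length 1755 (suborbits 1, 10, 80, 640, 1024), hence is simple.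
-/

set_option autoImplicit false

namespace Cfsg.Agent.Lib.Helper95.Ru

open Cfsg.Agent.Lib.Helper62.RuKey Cfsg.Agent.Lib.Helper26.RuKey Cfsg.Agent.Lib.Helper66.RuKey
  Cfsg.Agent.Lib.Helper63.RuKey Cfsg.Agent.Lib.Helper90.RuKey Cfsg.Agent.Lib.Helper42.RuKey
  Cfsg.Agent.Lib.Helper96.RuKey

local notation "JT1" => Subgroup.closure (genSet GT1)
local notation "JT2" => Subgroup.closure (genSet GT2)
local notation "JT3" => Subgroup.closure (genSet GT3)

/-- The orbit of length 1755 of the Tits subgroup. -/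
abbrev XT : Type := {x : Fin 4060 // inOrb tW1 x.val = true}

theorem JT1_mapsTo (g : P) (hg : g ∈ JT1) (x : Fin 4060) (hx : inOrb tW1 x.val = true) :
    inOrb tW1 (g x).val = true :=
  closure_mapsTo tW1 GT1
    (fun g hg x hx => gen_mapsTo Bpts tL1 [tL2, tL3] GT1 repL_t1 lvl_t1 g hg x hx) g hg x hx

noncomputable instance actT : MulAction JT1 XT where
  smul g x := ⟨g.val x.val, JT1_mapsTo g.val g.property x.val x.property⟩
  one_smul _ := Subtype.ext rfl
  mul_smul _ _ _ := Subtype.ext rfl

theorem actT_val (g : JT1) (x : XT) : (g • x).val = g.val x.val := rfl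

theorem JT2_fix2 : ∀ g ∈ JT2, g (⟨2, by decide⟩ : Fin 4060) = ⟨2, by decide⟩ :=
  fix_of_fixCheck tLT2 GT2 repL_t2 2 (by decide) fix_t2

/-- The base points `2, 3, 5` as points of the orbit. -/
def pt2 : XT := ⟨⟨2, by decide⟩, root_t1.1⟩
def pt3 : XT := ⟨⟨3, by decide⟩, inT3⟩
def pt5 : XT := ⟨⟨5, by decide⟩, inT5⟩

theorem eq_one_of_fix_base (k : P) (hk : k ∈ JT1) (h2 : k pt2.val = pt2.val) (h3 : k pt3.val = pt3.val)
    (h5 : k pt5.val = pt5.val) : k = 1 := by
  have m2 : k ∈ JT2 := sound_t1.2.1 k hk h2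
  have m3 : k ∈ JT3 := sound_t2.2.1 k m2 h3
  have m4 : k ∈ (⊥ : Subgroup P) := sound_t3.2.1 k m3 h5
  exact Subgroup.mem_bot.mp m4

instance faithfulT : FaithfulSMul JT1 XT := ⟨by
  intro g h hgh
  have key : ∀ x : XT, (h⁻¹ * g).val x.val = x.val := by
    intro x
    have e := congrArg Subtype.val (hgh x)
    rw [actT_val, actT_val] at e
    rw [Subgroup.coe_mul, Subgroup.coe_inv, Equiv.Perm.mul_apply, e]
    simp
  have h1 : (h⁻¹ * g).val = 1 :=
    eq_one_of_fix_base _ (h⁻¹ * g).property (key pt2) (key pt3) (key pt5)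
  have h2 : h⁻¹ * g = 1 := Subtype.ext h1
  exact (inv_mul_eq_one.mp h2).symm⟩

theorem pretrans_T : MulAction.IsPretransitive JT1 XT := by
  rw [MulAction.isPretransitive_iff_base pt2]
  intro x
  obtain ⟨g, hg, hgx⟩ := sound_t1.2.2 x.val.val x.val.isLt x.property
  exact ⟨⟨g, hg⟩, Subtype.ext hgx⟩

/-- The four suborbits of the stabiliser of the point `2`. -/
def setS (W : Nat) : Finset XT := Finset.univ.filter (fun x => inOrb W x.val.val = true)

theorem mem_setS (W : Nat) (x : XT) : x ∈ setS W ↔ inOrb W x.val.val = true := by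
  unfold setS; simp

theorem card_XT : Fintype.card XT = 1755 := by
  rw [card_sub 4060 (inOrb tW1), ← orbCount_eq]
  exact count_t1

theorem sub_of_check (W : Nat) (h : allBelow (fun x => !(inOrb W x) || inOrb tW1 x) 4060 = true) :
    ∀ x, inOrb W x = true → inOrb tW1 x = true := by
  intro x hx
  by_cases hlt : x < 4060
  · have h1 := allBelow_spec h x hlt
    rw [hx] at h1
    simpa using h1
  · exact inOrb_of_ge tW1 bound_tW1 x (by omega)

theorem card_setS (W : Nat) (h : allBelow (fun x => !(inOrb W x) || inOrb tW1 x) 4060 = true) :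
    (setS W).card = orbCount W 4060 := by
  unfold setS
  rw [card_filter_sub 4060 (inOrb tW1) (inOrb W) (sub_of_check W h), ← orbCount_eq]

/-- The suborbit certificate for one of the four suborbits. -/
theorem horb_T (L : Lvl) (hLT : L.LT = tLT2) (hβ : L.β < 4060) (hroot : inOrb L.W L.β = true)
    (hsub : allBelow (fun x => !(inOrb L.W x) || inOrb tW1 x) 4060 = true)
    (hchk : orbitCheck L = true) :
    ∃ r ∈ setS L.W, ∀ x ∈ setS L.W, ∃ g : JT1, g • pt2 = pt2 ∧ g • r = x := by
  have hrootT : inOrb tW1 L.β = true := sub_of_check L.W hsub L.β hroot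
  refine ⟨⟨⟨L.β, hβ⟩, hrootT⟩, (mem_setS _ _).mpr hroot, ?_⟩
  intro x hx
  have hL : RepL L.LT GT2 := by rw [hLT]; exact repL_t2
  obtain ⟨g, hg, hgx⟩ := orbit_sound L GT2 hL hβ hchk x.val.val x.val.isLt ((mem_setS _ x).mp hx)
  exact ⟨⟨g, JT2_le hg⟩, Subtype.ext (JT2_fix2 g hg), Subtype.ext hgx⟩

theorem prim_T : MulAction.IsPreprimitive JT1 XT := by
  have := pretrans_T
  refine isPreprimitive_of_suborbits (G := JT1) pt2 [setS sW0, setS sW1, setS sW2, setS sW3]
    ?_ ?_ ?_ ?_ ?_
  · intro x hx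
    have h := allBelow_spec coverT x.val.val x.val.isLt
    simp only [Bool.or_eq_true] at h
    rcases h with ((((h | h) | h) | h) | h) | h
    · rw [x.property] at h; exact absurd h (by decide)
    · exact absurd (Subtype.ext (Fin.ext (Nat.eq_of_beq_eq_true h))) hx
    · exact ⟨setS sW0, by simp, (mem_setS _ x).mpr h⟩
    · exact ⟨setS sW1, by simp, (mem_setS _ x).mpr h⟩
    · exact ⟨setS sW2, by simp, (mem_setS _ x).mpr h⟩
    · exact ⟨setS sW3, by simp, (mem_setS _ x).mpr h⟩
  · intro O hO
    simp only [List.mem_cons, List.not_mem_nil, or_false] at hO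
    rcases hO with rfl | rfl | rfl | rfl <;> rw [mem_setS] <;> show ¬ (inOrb _ 2 = true)
    · rw [notS0]; decide
    · rw [notS1]; decide
    · rw [notS2]; decide
    · rw [notS3]; decide
  · have hd : ∀ W W' : Nat, (∀ x, x < 4060 → (inOrb W x && inOrb W' x) = false) →
        Disjoint (setS W) (setS W') := by
      intro W W' h
      rw [Finset.disjoint_left]
      intro x hx hx'
      have h1 := h x.val.val x.val.isLt
      rw [(mem_setS _ x).mp hx, (mem_setS _ x).mp hx'] at h1
      exact absurd h1 (by decide)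
    have hall : ∀ x, x < 4060 → _ := allBelow_spec disjT
    simp only [Bool.and_eq_true, Bool.not_eq_true'] at hall
    simp only [List.pairwise_cons, List.mem_cons, List.not_mem_nil, or_false, forall_eq_or_imp,
      forall_eq, IsEmpty.forall_iff, implies_true, List.Pairwise.nil, and_true]
    refine ⟨⟨hd _ _ fun x hx => (hall x hx).1.1.1.1.1, hd _ _ fun x hx => (hall x hx).1.1.1.1.2,
      hd _ _ fun x hx => (hall x hx).1.1.1.2⟩, ⟨hd _ _ fun x hx => (hall x hx).1.1.2,
      hd _ _ fun x hx => (hall x hx).1.2⟩, hd _ _ fun x hx => (hall x hx).2⟩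
  · intro O hO
    simp only [List.mem_cons, List.not_mem_nil, or_false] at hO
    rcases hO with rfl | rfl | rfl | rfl
    · exact horb_T sL0 rfl (by decide) rootS0 subT0 orbit_s0
    · exact horb_T sL1 rfl (by decide) rootS1 subT1 orbit_s1
    · exact horb_T sL2 rfl (by decide) rootS2 subT2 orbit_s2
    · exact horb_T sL3 rfl (by decide) rootS3 subT3 orbit_s3
  · rw [card_XT]
    refine sublist_cond [setS sW0, setS sW1, setS sW2, setS sW3] [1024, 640, 80, 10] 1755 ?_
      (by decide)
    simp only [List.map, card_setS sW0 subT0, card_setS sW1 subT1, card_setS sW2 subT2,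
      card_setS sW3 subT3, count_s0, count_s1, count_s2, count_s3]

theorem simple_T : IsSimpleGroup JT1 := by
  have := prim_T
  have : Nontrivial JT1 := by
    rw [← Finite.one_lt_card_iff_nontrivial, card_JT1]; norm_num
  refine isSimpleGroup_of_preprimitive_of_prime_generators (G := JT1) (X := XT) 13
    (by norm_num) (by rw [card_XT]; norm_num) ?_ (Subtype.val ⁻¹' genSet GT1) ?_
    Subgroup.closure_closure_coe_preimage
  · rw [card_JT1]; norm_num
  · rintro ⟨s, hs⟩ hmem
    have hmem' : s ∈ GT1 := hmem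
    apply Subtype.ext
    rw [Subgroup.coe_pow, Subgroup.coe_one]
    exact fm2 (p := fun s : P => s ^ 13 = 1)
      (pow_eq_one_of_check tT1_0 gt1_0 13 (rep_mkPerm _ _ _) pow13_t1_0)
      (pow_eq_one_of_check tT1_1 gt1_1 13 (rep_mkPerm _ _ _) pow13_t1_1) s hmem'

end Cfsg.Agent.Lib.Helper95.Ru
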